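import Cfsg.Agent.Lib.FSet.Sol

/-! F-sets: the crux lemma (`docs/FSET.md`). -/

set_option autoImplicit false
set_option linter.unusedSectionVars false

namespace Cfsg.Lib.FSet

open Subgroup Cfsg.Lib.BG Cfsg.Lib.Transfer
open scoped Cfsg.Lib.Transfer

variable {G : Type*} [Group G] {p r k : ℕ} {D : Set (Subgroup G)} {A B H K : Subgroup G} {w z : G}
  [hp : Fact p.Prime] [hr : Fact r.Prime] [Finite G]

/-- `z` is a heavy element: it lies in the `zd` of the good subspace it fixes -/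
structure Hv (r : ℕ) (D : Set (Subgroup G)) (z : G) : Prop where
  ne : z ≠ 1
  good : IsPGroup r (rd D 𝐂[z])
  mem : z ∈ zd D 𝐂[z]

theorem Hv.conj (w : W p r k D) (e : Hv r D z) (g : G) : Hv r D (g * z * g⁻¹) :=
  ⟨fun k => e.ne (by simpa using k), by rw [← conj_cent1, ← w.conj_rd]; exact (pgroup_conj g).2 e.good, by
    rw [← conj_cent1, ← w.conj_zd]; exact conj_mem_conj.2 e.mem⟩

theorem exists_cent (hA : IsPGroup r A) (hB : IsPGroup r B) (n : B ≤ 𝐍(A)) (h : A ≠ ⊥) : ∃ x ∈ A, x ≠ 1 ∧ x ∈ 𝐂(B) :=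
  have ⟨x, hx, x1⟩ := exists_ne_one (nil_meet_center (pgroup_nil (pgroup_sup hA hB n)) le_sup_left (sup_le_norm_left n) h)
  ⟨x, hx.1, x1, cent_anti le_sup_right hx.2⟩

namespace Cx

variable (h : Cx p r k D) {E : Subgroup G} {y z' : G}
include h

theorem hv (g : IsPGroup r (rd D H)) (hz : z ∈ zd D H) (z1 : z ≠ 1) : Hv r D z ∧ cl D H ≤ 𝐂[z] :=
  have k := le_cent1_iff.2 (h.zd_cent h.m2 g hz)
  ⟨⟨z1, h.fg H g z hz z1, zd_mono k hz⟩, k⟩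

/-- all nontrivial elements of `Z_Ψ` fix the same points -/
theorem same (e : Hv r D z) (hw : w ∈ zd D 𝐂[z]) (w1 : w ≠ 1) : cl D 𝐂[w] = cl D 𝐂[z] :=
  have k := h.hv e.good hw w1
  le_antisymm (cl_le_cl (h.hv k.1.good (zd_mono k.2 e.mem) e.ne).2) (cl_le_cl k.2)

/-- big subspaces are maximal among the good ones -/
theorem max (e : Hv r D z) (g : IsPGroup r (rd D H)) (l : cl D 𝐂[z] ≤ H) : cl D H ≤ 𝐂[z] :=
  (h.hv g (zd_mono l e.mem) e.ne).2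

theorem ti (e : Hv r D z) (e' : Hv r D z') (n : cl D 𝐂[z] ≠ cl D 𝐂[z']) : zd D 𝐂[z] ⊓ zd D 𝐂[z'] = ⊥ :=
  eq_bot_iff.2 fun _ hw => by_contra fun w1 => n ((h.same e hw.1 w1).symm.trans (h.same e' hw.2 w1))

theorem zd_pg (g : IsPGroup r (rd D H)) : IsPGroup r (zd D H) := g.to_le zd_le_rd

theorem zd_rd (g : IsPGroup r (rd D H)) : zd D H ≤ 𝐂(rd D H) := (h.zd_cent h.m2 g).trans (cent_anti rd_le_cl)

theorem norm_big (e : Hv r D z) (hw : w ∈ zd D 𝐂[z]) (w1 : w ≠ 1) : 𝐂[w] ≤ 𝐍(cl D 𝐂[z]) :=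
  h.same e hw w1 ▸ h.norm_cl (le_norm _)

theorem norm_zd' (n : K ≤ 𝐍(cl D H)) : K ≤ 𝐍(zd D H) := zd_cl (D := D) (H := H) ▸ h.norm_zd n

theorem norm_rd' (n : K ≤ 𝐍(cl D H)) : K ≤ 𝐍(rd D H) := rd_cl (D := D) (H := H) ▸ h.norm_rd n

theorem not_le (e' : Hv r D z') (e : Hv r D z) (n : cl D 𝐂[z] ≠ cl D 𝐂[z']) : ¬ cl D 𝐂[z'] ≤ 𝐂[z] := fun l =>
  n (le_antisymm (cl_le_cl (h.max e' e.good l)) (cl_le_cl l))

theorem step0 (e : Hv r D z) (hA : A ∈ D) (h2 : A ≤ 𝐂[z]) (k1 : zd D 𝐂[z] ≤ B) (k2 : B ≤ rd D 𝐂[z]) (k3 : A ≤ 𝐍(B)) :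
    cl D 𝐍(B) ≤ 𝐂[z] :=
  (h.lg B (e.good.to_le k2) (ne_bot_of_mem (k1 e.mem) e.ne)).elim
    (fun g => h.max e g ((h.cl_eq hA h2).le.trans (sup_le (norm_of_comm_le_of_le k1 k2) k3)))
    fun l => l.trans (cent_le_cent1 (k1 e.mem))

theorem up (e : Hv r D z) (g : IsPGroup r (rd D H)) (hA : A ∈ D) (h1 : A ≤ H) (h2 : A ≤ 𝐂[z]) (n : ¬ cl D H ≤ 𝐂[z])
    (k1 : E ≤ zd D 𝐂[z]) (k2 : E ≤ 𝐍(cl D H)) :
    (rd D (H ⊓ 𝐂[z]) ⊔ zd D H ⊔ E) ⊓ rd D H ≤ rd D (H ⊓ 𝐂[z]) ⊔ zd D H ∧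
      ∃ y ∈ rd D H ⊓ 𝐍(rd D (H ⊓ 𝐂[z]) ⊔ zd D H ⊔ E), ¬ y ⋆ A ≤ 𝐂[z] := by
  set S := rd D (H ⊓ 𝐂[z]) ⊔ zd D H
  have c := k1.trans (h.zd_cent h.m2 e.good)
  have l : rd D (H ⊓ 𝐂[z]) ≤ rd D H := rd_mono (cl_le.trans inf_le_left)
  have l' : S ≤ rd D H := sup_le l zd_le_rd
  have n1 : E ≤ 𝐍(S) := norm_sup (norm_of_cent (c.trans (cent_anti (rd_le_cl.trans (cl_mono inf_le_right))))) (h.norm_zd' k2)
  have n2 := h.norm_rd' k2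
  have m : (S ⊔ E) ⊓ rd D H ≤ S := (modular_left l' n1).le.trans (sup_le le_rfl (le_sup_of_le_right
    ((le_inf inf_le_right (inf_le_left.trans (c.trans (cent_anti (le_cl hA h2))))).trans (h.zd_eq h.m2 hA h1 g).ge)))
  have key : ∀ y ∈ S, y ⋆ A ≤ 𝐂[z] := fun y hy => by
    obtain ⟨u, hu, w, hw, rfl⟩ := (mem_sup_left_norm (norm_of_cent ((h.zd_rd g).trans (cent_anti l)))).1 hy
    rw [← conj_conj, conj_eq_of_cent ((h.zd_eq h.m2 hA h1 g).le hw).2]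
    exact conj_le_of_mem h2 (rd_le hu).2
  refine ⟨m, ?_⟩
  have lt : S ⊔ E < rd D H ⊔ E := lt_of_le_of_ne (sup_le_sup_right l' _) fun q => n (cl_le_iff.2 fun B hB b => by
    obtain ⟨x, hx, rfl⟩ := h.exists_conj hA hB h1 b
    exact key x (m ⟨q.ge (mem_sup_left hx), hx⟩))
  obtain ⟨x, hx, x1⟩ := SetLike.exists_of_lt (nil_norm_grow (pgroup_nil (pgroup_sup g ((h.zd_pg e.good).to_le k1) n2)) lt)
  obtain ⟨y, hy, c', hc, rfl⟩ := (mem_sup_left_norm n2).1 hx.1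
  refine ⟨y, ⟨hy, (mul_mem_cancel_right (le_norm _ (mem_sup_right hc))).1 hx.2⟩, fun q => x1 (mul_mem ?_ (mem_sup_right hc))⟩
  obtain ⟨u, hu, q'⟩ := h.exists_conj hA (h.conj A hA y) (le_inf h1 h2) (le_inf (conj_le_of_mem h1 (rd_le hy)) q)
  have k3 : u⁻¹ * y ∈ zd D H := (h.zd_eq h.m2 hA h1 g).ge (mem_inf.2 ⟨mul_mem (inv_mem (l hu)) hy, h.norm_le_cent hA g
    (h.full hA h1 g).2.1 (mem_inf.2 ⟨mul_mem (inv_mem (l hu)) hy,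
      norm_of_conj_eq (by rw [← conj_conj, ← q', inv_conj_conj])⟩)⟩)
  simpa using mem_sup_left (T := E) (mul_mem_sup hu k3)

theorem half (e : Hv r D z) (e' : Hv r D z') (hA : A ∈ D) (h2 : A ≤ 𝐂[z]) (h3 : A ≤ 𝐂[z'])
    (n : cl D 𝐂[z] ≠ cl D 𝐂[z']) (k : zd D 𝐂[z] ⊓ 𝐍(cl D 𝐂[z']) ≠ ⊥)
    (hB : B = rd D (𝐂[z'] ⊓ 𝐂[z]) ⊔ (zd D 𝐂[z] ⊓ 𝐍(cl D 𝐂[z']) ⊔ zd D 𝐂[z'] ⊓ 𝐍(cl D 𝐂[z]))) (a : A ≤ 𝐍(B)) :
    ∃ y, y ⋆ A ≤ 𝐍(B) ⊓ cl D 𝐂[z'] ∧ ¬ y ⋆ A ≤ 𝐂[z] := by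
  obtain ⟨m, y, hy, q⟩ := h.up e e'.good hA h3 h2 (h.not_le e' e n) inf_le_left (inf_le_right (b := 𝐍(cl D 𝐂[z'])))
  set I := rd D (𝐂[z'] ⊓ 𝐂[z])
  set E := zd D 𝐂[z] ⊓ 𝐍(cl D 𝐂[z'])
  have l1 : I ≤ rd D 𝐂[z] := rd_mono (cl_le.trans inf_le_right)
  have l2 : I ≤ rd D 𝐂[z'] := rd_mono (cl_le.trans inf_le_left)
  have c1 := h.zd_rd e'.good
  have c2 : E ≤ 𝐂(I) := inf_le_left.trans ((h.zd_rd e.good).trans (cent_anti l1))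
  have c3 : E ≤ 𝐂(A) := inf_le_left.trans ((h.zd_eq h.m2 hA h2 e.good).le.trans inf_le_right)
  have c4 : zd D 𝐂[z'] ≤ 𝐂(A) := (h.zd_eq h.m2 hA h3 e'.good).le.trans inf_le_right
  have ab : I ≤ 𝐂(I) := comm_eq_bot_iff.1 (eq_bot_mono (h.ti e e' n) (le_inf (der_mono l1) (der_mono l2)))
  have aI : A ≤ 𝐍(I) := (le_cl hA (le_inf h3 h2)).trans cl_norm_rd
  have nA : A ≤ 𝐍(rd D 𝐂[z'] ⊓ 𝐍(I ⊔ zd D 𝐂[z'] ⊔ E)) := norm_inf ((le_cl hA h3).trans cl_norm_rd)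
    (norm_norm (norm_sup (norm_sup aI (norm_of_cent (cent_symm c4))) (norm_of_cent (cent_symm c3))))
  have cm : ∀ y ∈ rd D 𝐂[z'] ⊓ 𝐍(I ⊔ zd D 𝐂[z'] ⊔ E), ∀ c ∈ E, y * c * y⁻¹ * c⁻¹ ∈ I ⊔ zd D 𝐂[z'] := fun y hy c hc =>
    m (mem_inf.2 ⟨mul_mem (conj_mem_of_norm hy.2 (mem_sup_right hc)) (inv_mem (mem_sup_right hc)), by
      rw [mul_assoc, mul_assoc, ← mul_assoc c]
      exact mul_mem hy.1 (conj_mem_of_norm (h.norm_rd' inf_le_right hc) (inv_mem (mem_inf.1 hy).1))⟩)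
  have k1 : ∀ y ∈ rd D 𝐂[z'] ⊓ 𝐍(I ⊔ zd D 𝐂[z'] ⊔ E), ∀ v ∈ I, y * v * y⁻¹ ∈ B := fun y hy v hv => by
    obtain ⟨c, hc, c1'⟩ := exists_ne_one k
    have t := comm_mem_comm hy.1 (l2 hv)
    have s := cm y hy c hc
    have e1 := sup_le ab (c1.trans (cent_anti l2)) s v hv
    have e2 := c1 t _ (sup_le l2 zd_le_rd s)
    have e3 := c2 hc v hv
    have : y * v * y⁻¹ * v⁻¹ ∈ 𝐂[c] := mem_cent1.2 (by
      generalize hs : y * c * y⁻¹ * c⁻¹ = s at e1 e2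
      generalize ht : y * v * y⁻¹ * v⁻¹ = t at e2
      calc t * c = s⁻¹ * (s * t) * c := by group
        _ = s⁻¹ * t * (s * v) * (v⁻¹ * c) := by rw [e2]; group
        _ = s⁻¹ * t * (v * s) * (c * v⁻¹) := by rw [e1, (show Commute v c from e3).inv_left.eq]
        _ = c * y * c⁻¹ * v * (c * y⁻¹ * v⁻¹) := by rw [← hs, ← ht]; group
        _ = c * t := by rw [← ht, mul_assoc _ c⁻¹, mul_assoc (c * y), mul_assoc c⁻¹, ← mul_assoc v, ← mul_assoc v, e3]; group)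
    rw [← inv_mul_cancel_right (y * v * y⁻¹) v, hB]
    exact mul_mem (mem_sup_right (mem_sup_right ⟨t, h.norm_big e hc.1 c1' this⟩)) (mem_sup_left hv)
  refine ⟨y, le_inf (conj_le_iff.2 fun b hb => ?_) (le_cl (h.conj A hA y) (conj_le_of_mem h3 (rd_le hy.1))), q⟩
  have hx : y * b * y⁻¹ * b⁻¹ ∈ rd D 𝐂[z'] ⊓ 𝐍(I ⊔ zd D 𝐂[z'] ⊔ E) := by
    rw [mul_assoc, mul_assoc, ← mul_assoc b]
    exact mul_mem hy (conj_mem_of_norm (nA hb) (inv_mem hy))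
  rw [← inv_mul_cancel_right (y * b * y⁻¹) b]
  refine mul_mem (mem_normalizer_of_conj_le ?_) (a hb)
  conv_lhs => rw [hB, conj_sup, conj_sup]
  refine sup_le (conj_le_iff.2 (k1 _ hx)) (sup_le (conj_le_iff.2 fun c hc => ?_) ((conj_eq_of_cent
    (cent_symm (inf_le_left.trans c1) hx.1)).le.trans (hB ▸ le_sup_of_le_right le_sup_right)))
  obtain ⟨u, hu, w, hw, q'⟩ := (mem_sup_left_norm (norm_of_cent (c1.trans (cent_anti l2)))).1 (cm y hy c hc)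
  have e1 := c1 hw _ hy.1
  have e2 := c4 hw b hb
  have e3 := c3 hc b hb
  have e4 : c * y * c⁻¹ = u⁻¹ * y * w⁻¹ := by
    rw [mul_assoc u⁻¹, (show Commute y w from e1).inv_right.eq, ← mul_assoc,
      (show Commute u w from c1 hw u (l2 hu)).inv_inv.eq, ← mul_inv_rev, q']; group
  have e5 : c * (y * b * y⁻¹ * b⁻¹) * c⁻¹ = u⁻¹ * (y * b * y⁻¹ * b⁻¹) * (b * u * b⁻¹) := by
    calc _ = (c * y * c⁻¹) * (c * b * c⁻¹) * (c * y * c⁻¹)⁻¹ * (c * b * c⁻¹)⁻¹ := by group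
      _ = u⁻¹ * y * (w⁻¹ * (b * w)) * y⁻¹ * u * b⁻¹ := by rw [e4, ← e3]; group
      _ = _ := by rw [e2]; group
  generalize y * b * y⁻¹ * b⁻¹ = x at hx e5 ⊢
  rw [show x * c * x⁻¹ = (x * (b * u * b⁻¹) * x⁻¹)⁻¹ * u * c by
    rw [show b * u * b⁻¹ = x⁻¹ * u * (c * x * c⁻¹) by rw [e5]; group]; group]
  exact mul_mem (mul_mem (inv_mem (k1 x hx _ (conj_mem_of_norm (aI hb) hu))) (hB ▸ mem_sup_left hu))
    (hB ▸ mem_sup_right (mem_sup_left hc))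

theorem nice (e : Hv r D z) (g : IsPGroup r (rd D H)) (hA : A ∈ D) (h1 : A ≤ H) (h2 : A ≤ 𝐂[z]) (n : ¬ cl D H ≤ 𝐂[z])
    (k1 : E ≤ zd D 𝐂[z]) (k2 : E ≤ 𝐍(cl D H)) (k3 : E ≠ ⊥) :
    ∃ V : Subgroup G, V ≤ 𝐂(V) ∧ A ≤ 𝐍(V) ∧ E ≤ 𝐍(V) ∧ ⁅V, E⁆ ≤ rd D 𝐂[z] ∧ ∃ y ∈ V, ¬ y ⋆ A ≤ 𝐂[z] := by
  have cA : ∀ {z}, Hv r D z → A ≤ 𝐂[z] → A ≤ 𝐂(zd D 𝐂[z]) := fun e h2 =>
    cent_symm ((h.zd_eq h.m2 hA h2 e.good).le.trans inf_le_right)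
  by_cases q : zd D H = ⊥
  · obtain ⟨m, k⟩ := h.up e g hA h1 h2 n k1 k2
    rw [q, sup_bot_eq] at m k
    refine ⟨_, cent_mono (comm_eq_bot_iff.1 q) inf_le_left inf_le_left, norm_inf (h.full hA h1 g).2.1
      (norm_norm (norm_sup ((le_cl hA (le_inf h1 h2)).trans cl_norm_rd) (norm_of_cent ((cA e h2).trans (cent_anti k1))))),
      norm_inf (h.norm_rd' k2) (norm_norm (le_norm_of_le le_sup_right)), (le_inf ?_ ?_).trans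
        (m.trans (rd_mono (cl_le.trans inf_le_right))), k⟩
    · exact (commutator_mono inf_le_right le_sup_right).trans (comm_le_right le_rfl)
    · exact (commutator_mono inf_le_left le_rfl).trans (comm_le_left (h.norm_rd' k2))
  obtain ⟨z', hz, z1, c⟩ := exists_cent (h.zd_pg g) ((h.zd_pg e.good).to_le k1) (h.norm_zd' k2) q
  obtain ⟨e', l⟩ := h.hv g hz z1
  have h3 := (le_cl hA h1).trans l
  have n' : cl D 𝐂[z] ≠ cl D 𝐂[z'] := fun k => n ((cl_le_cl l).trans (k.ge.trans cl_le))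
  have lE : E ≤ zd D 𝐂[z] ⊓ 𝐍(cl D 𝐂[z']) := le_inf k1 ((le_cent1_iff.2 c).trans (h.norm_cl (le_norm _)))
  obtain ⟨x, hx, x1⟩ := exists_ne_one k3
  have hz' : z' ∈ zd D 𝐂[z'] ⊓ 𝐍(cl D 𝐂[z]) := ⟨e'.mem, h.norm_big e (k1 hx) x1 (cent_le_cent1 hx c)⟩
  set I := rd D (𝐂[z'] ⊓ 𝐂[z])
  set E₁ := zd D 𝐂[z] ⊓ 𝐍(cl D 𝐂[z'])
  set E₂ := zd D 𝐂[z'] ⊓ 𝐍(cl D 𝐂[z])
  have l1 : I ≤ rd D 𝐂[z] := rd_mono (cl_le.trans inf_le_right)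
  have l2 : I ≤ rd D 𝐂[z'] := rd_mono (cl_le.trans inf_le_left)
  have c1 : A ≤ 𝐂(E₁ ⊔ E₂) := le_cent_sup ((cA e h2).trans (cent_anti inf_le_left)) ((cA e' h3).trans (cent_anti inf_le_left))
  have c2 : E₁ ⊔ E₂ ≤ 𝐍(I) := norm_of_cent (sup_le (inf_le_left.trans ((h.zd_rd e.good).trans (cent_anti l1)))
    (inf_le_left.trans ((h.zd_rd e'.good).trans (cent_anti l2))))
  have aI : A ≤ 𝐍(I) := (le_cl hA (le_inf h3 h2)).trans cl_norm_rd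
  have a : A ≤ 𝐍(I ⊔ (E₁ ⊔ E₂)) := norm_sup aI (norm_of_cent c1)
  have c3 : E₂ ≤ 𝐂(E₁) := comm_eq_bot_iff.1 (eq_bot_mono (h.ti e e' n') (le_inf
    ((commutator_mono inf_le_right inf_le_left).trans (comm_le_right (h.norm_zd' le_rfl)))
    ((commutator_mono inf_le_left inf_le_right).trans (comm_le_left (h.norm_zd' le_rfl)))))
  have pB : IsPGroup r ↥(I ⊔ (E₁ ⊔ E₂)) := pgroup_sup (e.good.to_le l1) (pgroup_sup ((h.zd_pg e.good).to_le inf_le_left)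
    ((h.zd_pg e'.good).to_le inf_le_left) (norm_of_cent c3)) c2
  obtain ⟨y, y1, y2⟩ := h.half e e' hA h2 h3 n' (ne_bot_mono k3 lE) rfl a
  obtain ⟨y', y3, y4⟩ := h.half e' e hA h3 h2 n'.symm (ne_bot_of_mem hz' z1) (by rw [inf_comm 𝐂[z], sup_comm E₂]) a
  set B := I ⊔ (E₁ ⊔ E₂)
  have lB : E₁ ≤ B := le_sup_of_le_right le_sup_left
  have g1 : IsPGroup r (rd D 𝐍(B)) := (h.lg B pB (ne_bot_mono k3 (lE.trans lB))).resolve_right fun k => y2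
    ((le_cl (h.conj A hA y) ((le_cl (h.conj A hA y) (y1.trans inf_le_left)).trans
      (k.trans (cent_le_cent1 (lB (lE hx)))))).trans ((h.same e (k1 hx) x1).le.trans cl_le))
  have g2 : IsPGroup r (rd D (𝐍(B) ⊓ cl D 𝐂[z'])) := g1.to_le (rd_mono (cl_le.trans inf_le_left))
  have z0 : zd D (𝐍(B) ⊓ cl D 𝐂[z']) = ⊥ := eq_bot_iff.2 fun w hw => by_contra fun w1 => y4
    ((le_cl (h.conj A hA y') ((le_cl (h.conj A hA y') (y3.trans inf_le_left)).trans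
      (h.hv g1 (zd_mono (cl_le.trans inf_le_left) hw) w1).2)).trans
      ((h.same e' (zd_mono (cl_le.trans (inf_le_right.trans cl_le)) hw) w1).le.trans cl_le))
  have a' : A ≤ 𝐍(B) ⊓ cl D 𝐂[z'] := le_inf a (le_cl hA h3)
  have f := h.full hA a' g2
  have nE : E ≤ 𝐍(rd D (𝐍(B) ⊓ cl D 𝐂[z'])) := h.norm_rd
    (norm_inf (norm_norm (le_norm_of_le (lE.trans lB))) (lE.trans inf_le_right))
  obtain ⟨u, hu, q'⟩ := h.exists_conj hA (h.conj A hA y) a' y1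
  refine ⟨_, comm_eq_bot_iff.1 z0, f.2.1, nE, (le_inf ((commutator_mono (rd_le.trans inf_le_left) (lE.trans lB)).trans
    (comm_le_right le_rfl)) (comm_le_left nE)).trans (le_trans ?_ l1), u, hu, q' ▸ y2⟩
  have n0 := norm_inf a f.2.1
  rw [← coprime_comm_eq_of_cent_bot n0 (h.cop hA (pB.to_le inf_le_left)) (.inl (pgroup_sol (h.pg hA))) (eq_bot_mono z0
    ((inf_le_inf_right _ inf_le_right).trans (h.zd_eq h.m2 hA a' g2).ge))]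
  refine (commutator_mono inf_le_left le_rfl).trans (comm_le_iff.2 fun x hx b hb => ?_)
  obtain ⟨v, hv, c, hc, rfl⟩ := (mem_sup_left_norm c2).1 hx
  rw [mul_assoc v, c1 hb c hc, show v * (b * c) * (v * c)⁻¹ * b⁻¹ = v * (b * v⁻¹ * b⁻¹) by group]
  exact mul_mem hv (conj_mem_of_norm (aI hb) (inv_mem hv))

/-- a good subspace meeting the fixed points of `z` and normalized by `z` is fixed by `z` -/
theorem crux (e : Hv r D z) (g : IsPGroup r (rd D H)) (hA : A ∈ D) (h1 : A ≤ H) (h2 : A ≤ 𝐂[z])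
    (h3 : z ∈ 𝐍(cl D H)) : cl D H ≤ 𝐂[z] := by
  by_contra n
  obtain ⟨V, -, k1, -, k2, y, hy, q⟩ := h.nice e g hA h1 h2 n (zpowers_le.2 e.mem) (zpowers_le.2 h3)
    (ne_bot_of_mem (mem_zpowers z) e.ne)
  set Z := zd D 𝐂[z]
  have cA : A ≤ 𝐂(Z) := cent_symm ((h.zd_eq h.m2 hA h2 e.good).le.trans inf_le_right)
  have cz : ∀ y, y ⋆ Z = zd D 𝐂[y * z * y⁻¹] := fun y => by rw [h.conj_zd, conj_cent1]
  have n1 : ∀ y ∈ V, Z ≤ 𝐍(y ⋆ Z) := fun y hy => cz y ▸ h.norm_zd ((le_cent1_iff.2 (cent_symm (h.zd_rd e.good)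
    (inv_mul_cancel_right (y * z * y⁻¹) z ▸ mul_mem (k2 (comm_mem_comm hy (mem_zpowers z))) (zd_le_rd e.mem)))).trans
      (le_norm _))
  have n2 : ∀ x ∈ V, ∀ y ∈ V, x ⋆ Z ≤ 𝐍(y ⋆ Z) := fun x hx y hy => by
    have := conj_mono x (n1 _ (mul_mem (inv_mem hx) hy))
    rwa [conj_normalizer, conj_conj, mul_inv_cancel_left] at this
  have c : ∀ x ∈ V, ∀ y ∈ V, x ⋆ Z ≤ 𝐂(y ⋆ Z) := fun x hx y hy => by
    by_cases k : cl D 𝐂[x * z * x⁻¹] = cl D 𝐂[y * z * y⁻¹]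
    · rw [cz, cz, ← zd_cl, k, zd_cl]
      exact (h.zd_rd (e.conj h.toW y).good).trans (cent_anti zd_le_rd)
    · exact cent_of_norm_of_disjoint (n2 x hx y hy) (n2 y hy x hx)
        (by rw [cz, cz]; exact h.ti (e.conj h.toW x) (e.conj h.toW y) k)
  set X := ⨆ y ∈ V, y ⋆ Z
  have lX : ∀ y ∈ V, y ⋆ Z ≤ X := fun y hy => le_iSup₂ (f := fun y (_ : y ∈ V) => y ⋆ Z) y hy
  have ZX : Z ≤ X := conj_one Z ▸ lX 1 (one_mem V)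
  have ab : X ≤ 𝐂(X) := iSup₂_le fun x hx => cent_symm (iSup₂_le fun y hy => c y hy x hx)
  have pX : IsPGroup r X := (pcore_pgroup r X).to_le (iSup₂_le fun x hx => nil_le_pcore (abelian_nil (abelian_iff.2 ab))
    (lX x hx) (PiGrp.p_iff.2 ((pgroup_conj x).2 (h.zd_pg e.good))))
  have nX : ∀ x, (∀ y ∈ V, (x * y) ⋆ Z ≤ X) → x ∈ 𝐍(X) := fun x k => mem_normalizer_of_conj_le
    (conj_le_iff_le_inv_conj.2 (iSup₂_le fun y hy => conj_le_iff_le_inv_conj.1 (by rw [conj_conj]; exact k y hy)))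
  have aX : A ≤ 𝐍(X) := fun a ha => nX a fun y hy => by
    rw [← inv_mul_cancel_right (a * y) a, ← conj_conj, conj_eq_of_cent (cA ha)]
    exact lX _ (conj_mem_of_norm (k1 ha) hy)
  have yX : y ⋆ A ≤ cl D 𝐍(X) := le_cl (h.conj A hA y) (conj_le_of_mem aX (nX y fun x hx => lX _ (mul_mem hy hx)))
  obtain ⟨V, k3, k4, k5, k6, y, hy, q'⟩ := h.nice e ((h.lg X pX (ne_bot_of_mem (ZX e.mem) e.ne)).resolve_right
    fun k => q (yX.trans (k.trans (cent_le_cent1 (ZX e.mem))))) hA aX h2 (fun k => q (yX.trans k)) le_rfl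
    (h.norm_cl (norm_norm (le_norm_of_le ZX))) (ne_bot_of_mem e.mem e.ne)
  have a : A ≤ 𝐍(⁅V, Z⁆ ⊔ Z) := norm_sup (norm_comm k4 (norm_of_cent cA)) (norm_of_cent cA)
  refine q' ((le_cl (h.conj A hA y) (conj_le_of_mem a (mem_normalizer_of_conj_le ?_))).trans
    (h.step0 e hA h2 le_sup_right (sup_le k6 zd_le_rd) a))
  rw [conj_sup, conj_eq_of_norm (left_norm_comm V Z hy)]
  exact sup_le le_sup_left (conj_le_iff.2 fun c hc =>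
    inv_mul_cancel_right (y * c * y⁻¹) c ▸ mul_mem_sup (comm_mem_comm hy hc) hc)

end Cx

end Cfsg.Lib.FSet
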