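import Cfsg.Agent.Lib.BG.T01_Cyclic
import Cfsg.Agent.Lib.BG.Quo

/-! # F-sets, part W: classes `D` of subgroups of order `p` any two of which generate `R ⋊ A`, `R` an `r`-group -/

set_option autoImplicit false

namespace Cfsg.Lib.FSet

open Subgroup Cfsg.Lib.BG Cfsg.Lib.Transfer
open scoped Cfsg.Lib.Transfer

variable {G : Type*} [Group G] {G' : Type*} [Group G'] {p r k : ℕ} {D : Set (Subgroup G)}
  {A B C H K L R : Subgroup G} {a b g x y : G}

/-- the weak structure: points `D`, lines `A ⊔ B = R ⋊ A` with `k` points -/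
structure W (p r k : ℕ) (D : Set (Subgroup G)) : Prop where
  ne : r ≠ p
  p2 : p ≠ 2
  card : ∀ A ∈ D, Nat.card A = p
  conj : ∀ A ∈ D, ∀ g : G, g ⋆ A ∈ D
  line : ∀ A ∈ D, ∀ B ∈ D, A ≠ B → ∃ R : Subgroup G, IsPGroup r R ∧ SD R A (A ⊔ B)
  two : ∀ A ∈ D, ∀ B ∈ D, ∀ C ∈ D, A ≠ B → C ≠ A → C ≤ A ⊔ B → B ≤ A ⊔ C
  idx : ∀ A ∈ D, ∀ B ∈ D, A ≠ B → 𝐍(A).relIndex (A ⊔ B) = k

/-- the subgroup generated by the points inside `H` -/
def cl (D : Set (Subgroup G)) (H : Subgroup G) : Subgroup G := sSup {B | B ∈ D ∧ B ≤ H}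

/-- the derived subgroup of `cl D H` -/
def rd (D : Set (Subgroup G)) (H : Subgroup G) : Subgroup G := ⁅cl D H, cl D H⁆

theorem cl_le : cl D H ≤ H := sSup_le fun _ h => h.2
theorem le_cl (hB : B ∈ D) (h : B ≤ H) : B ≤ cl D H := le_sSup ⟨hB, h⟩
theorem cl_le_iff : cl D H ≤ K ↔ ∀ B ∈ D, B ≤ H → B ≤ K :=
  ⟨fun h _ hB e => (le_cl hB e).trans h, fun h => sSup_le fun B hB => h B hB.1 hB.2⟩
theorem cl_mono (h : H ≤ K) : cl D H ≤ cl D K := cl_le_iff.2 fun _ hB e => le_cl hB (e.trans h)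
theorem cl_le_cl (h : cl D H ≤ K) : cl D H ≤ cl D K := cl_le_iff.2 fun _ hB e => le_cl hB ((le_cl hB e).trans h)
theorem cl_cl : cl D (cl D H) = cl D H := le_antisymm cl_le (cl_le_cl le_rfl)
theorem rd_le_cl : rd D H ≤ cl D H := der_le _
theorem rd_le : rd D H ≤ H := rd_le_cl.trans cl_le
theorem rd_mono (h : cl D H ≤ K) : rd D H ≤ rd D K := der_mono (cl_le_cl h)
theorem rd_cl : rd D (cl D H) = rd D H := by rw [rd, cl_cl, rd]
theorem cl_norm_rd : cl D H ≤ 𝐍(rd D H) := norm_der (le_norm _)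

namespace W

variable (h : W p r k D)
include h

theorem conj_cl (g : G) (H : Subgroup G) : g ⋆ cl D H = cl D (g ⋆ H) := by
  have key : ∀ (g : G) (H : Subgroup G), cl D H ≤ g⁻¹ ⋆ cl D (g ⋆ H) := fun g H => cl_le_iff.2 fun B hB e =>
    conj_le_iff_le_inv_conj.1 (le_cl (h.conj B hB g) (conj_mono g e))
  refine le_antisymm (conj_le_iff_le_inv_conj.2 (key g H)) ?_
  have := key g⁻¹ (g ⋆ H)
  rwa [inv_conj_conj, inv_inv] at this

theorem conj_rd (g : G) (H : Subgroup G) : g ⋆ rd D H = rd D (g ⋆ H) := by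
  rw [rd, conj_commutator, h.conj_cl, rd]

theorem norm_cl (e : K ≤ 𝐍(H)) : K ≤ 𝐍(cl D H) :=
  le_norm_of_conj fun g hg => by rw [h.conj_cl, conj_eq_of_norm (e hg)]

theorem norm_rd (e : K ≤ 𝐍(H)) : K ≤ 𝐍(rd D H) := norm_der (h.norm_cl e)

variable [hp : Fact p.Prime] [hr : Fact r.Prime] [Finite G]

omit hr [Finite G] in
theorem prime (hA : A ∈ D) : (Nat.card A).Prime := h.card A hA ▸ hp.out
omit hr [Finite G] in
theorem pg (hA : A ∈ D) : IsPGroup p A := .of_card (n := 1) (by rw [h.card A hA, pow_one])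
omit hr [Finite G] in
theorem cyc (hA : A ∈ D) : IsCyclic A := cyclic_of_prime (h.prime hA)
omit hr [Finite G] in
theorem ab (hA : A ∈ D) : IsMulCommutative A := abelian_of_cyclic (h.cyc hA)
omit hr [Finite G] in
theorem ne_bot (hA : A ∈ D) : A ≠ ⊥ := ne_bot_of_prime (h.prime hA)
omit hr in
theorem eq_of_le (hA : A ∈ D) (hB : B ∈ D) (e : A ≤ B) : A = B :=
  eq_of_le_of_card_le e (by rw [h.card A hA, h.card B hB])
theorem cop (hA : A ∈ D) (hR : IsPGroup r R) : (Nat.card A).Coprime (Nat.card R) :=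
  coprime_pgroups (h.pg hA) hR h.ne.symm
theorem inf_bot (hA : A ∈ D) (hR : IsPGroup r R) : A ⊓ R = ⊥ := disjoint_of_coprime (h.cop hA hR)

theorem syl_of (hA : A ∈ D) (hC : C ∈ D) (hR : IsPGroup r R) (s : SD R A L) (e : C ≤ L) : Syl p C L := by
  refine Syl.mk' e (h.pg hC) ?_
  have e1 := BG.card_mul_relIndex e
  rw [← s.card, h.card A hA, h.card C hC, mul_comm (Nat.card R), mul_right_inj' hp.out.ne_zero] at e1
  exact e1 ▸ PiGrp.p'_iff.1 (p'_of_pgroup hR h.ne)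

theorem syl (hA : A ∈ D) (hB : B ∈ D) (hC : C ∈ D) (n : A ≠ B) (e : C ≤ A ⊔ B) : Syl p C (A ⊔ B) :=
  have ⟨_, h1, h2⟩ := h.line A hA B hB n
  h.syl_of hA hC h1 h2 e

theorem pg_line (hA : A ∈ D) (hB : B ∈ D) (n : A ≠ B) : IsPGroup r ↥⁅A ⊔ B, A ⊔ B⁆ := by
  obtain ⟨R, h1, h2⟩ := h.line A hA B hB n
  have := h2.der_le
  rw [abelian_iff_der.1 (h.ab hA), sup_bot_eq] at this
  exact h1.to_le this

/-- two points are conjugate under `[A ⊔ B, A]` -/
theorem conj_line (hA : A ∈ D) (hB : B ∈ D) : ∃ x ∈ ⁅A ⊔ B, A⁆, x ⋆ A = B := by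
  by_cases n : A = B
  · exact ⟨1, one_mem _, by rw [conj_one, n]⟩
  obtain ⟨R, h1, h2⟩ := h.line A hA B hB n
  obtain ⟨g, hg, e⟩ := (h.syl hA hB hA n le_sup_left).exists_conj_eq (h.syl hA hB hB n le_sup_right)
  obtain ⟨ρ, hρ, a, ha, rfl⟩ := h2.mem hg
  obtain ⟨m, hm, c, hc, rfl⟩ := Coprime.exists_commutator_mul_centralizer h2.norm (h.cop hA h1)
    (.inl (pgroup_sol (h.pg hA))) hρ
  refine ⟨m, commutator_mono h2.left_le le_rfl hm, ?_⟩
  rw [e, mul_assoc, ← conj_conj, ← conj_conj, conj_eq_of_mem ha, conj_eq_of_cent hc.2]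

theorem exists_conj (hA : A ∈ D) (hB : B ∈ D) (e1 : A ≤ H) (e2 : B ≤ H) : ∃ x ∈ rd D H, x ⋆ A = B :=
  have ⟨x, hx, e⟩ := h.conj_line hA hB
  ⟨x, comm_le_der (sup_le (le_cl hA e1) (le_cl hB e2)) (le_cl hA e1) hx, e⟩

theorem eq_of_pgroup (hA : A ∈ D) (hB : B ∈ D) (e : IsPGroup p ↥(A ⊔ B)) : A = B := by
  by_contra n
  exact n (h.eq_of_le hB hA (((h.syl hA hB hA n le_sup_left).eq_of_le_pgroup le_sup_left le_rfl e).ge.trans'
    le_sup_right)).symm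

theorem eq_of_norm (hA : A ∈ D) (hB : B ∈ D) (e : B ≤ 𝐍(A)) : A = B :=
  h.eq_of_pgroup hA hB (pgroup_sup (h.pg hA) (h.pg hB) e)

theorem cl_eq (hA : A ∈ D) (e : A ≤ H) : cl D H = rd D H ⊔ A := by
  refine le_antisymm (cl_le_iff.2 fun B hB e' => ?_) (sup_le rd_le_cl (le_cl hA e))
  obtain ⟨x, hx, rfl⟩ := h.exists_conj hA hB e e'
  exact conj_le_of_mem le_sup_right (mem_sup_left hx)

theorem line_eq (hA : A ∈ D) (hB : B ∈ D) (hC : C ∈ D) (n : A ≠ B) (n' : C ≠ A) (e : C ≤ A ⊔ B) :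
    A ⊔ C = A ⊔ B :=
  le_antisymm (sup_le le_sup_left e) (sup_le le_sup_left (h.two A hA B hB C hC n n' e))

/-- any two points of a line generate it -/
theorem line_eq' {C' : Subgroup G} (hA : A ∈ D) (hB : B ∈ D) (hC : C ∈ D) (hC' : C' ∈ D) (n : A ≠ B) (n' : C ≠ C')
    (e : C ≤ A ⊔ B) (e' : C' ≤ A ⊔ B) : C ⊔ C' = A ⊔ B := by
  by_cases e1 : C = A
  · subst e1; exact h.line_eq hA hB hC' n n'.symm e'
  have e2 := h.line_eq hA hB hC n e1 e
  rw [← e2, sup_comm A] at e' ⊢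
  exact h.line_eq hC hA hC' e1 n'.symm e'

/-- an element normalising two points induces the same power map on them -/
theorem lam (hA : A ∈ D) (hB : B ∈ D) (hg : g ∈ 𝐍(B)) {j : ℤ} (e : ∀ a ∈ A, g * a * g⁻¹ = a ^ j) :
    ∀ b ∈ B, g * b * g⁻¹ = b ^ j := by
  by_cases n : A = B
  · exact n ▸ e
  have hgA : g ∈ 𝐍(A) := mem_normalizer_of_conj_le (conj_le_iff.2 fun a ha => e a ha ▸ zpow_mem ha j)
  obtain ⟨x, hx, rfl⟩ := h.conj_line hA hB
  set F := A ⊔ x ⋆ A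
  rintro _ ⟨a, ha, rfl⟩
  have hF : F ≤ 𝐍(⁅F, F⁆) := norm_der (le_norm _)
  have gF : g ∈ 𝐍(⁅F, F⁆) := norm_der (norm_sup (zpowers_le.2 hgA) (zpowers_le.2 hg)) (mem_zpowers g)
  have xF : x ∈ F := comm_le_of_le le_rfl le_sup_left hx
  have aF : a ∈ F := mem_sup_left ha
  have hb : x * a * x⁻¹ ∈ x ⋆ A := conj_mem_conj.2 ha
  have e1 := mul_mem (conj_mem_of_norm gF (comm_mem_comm xF aF)) (comm_mem_comm (zpow_mem aF j) xF)
  rw [show g * (x * a * x⁻¹ * a⁻¹) * g⁻¹ * (a ^ j * x * (a ^ j)⁻¹ * x⁻¹) =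
    g * (x * a * x⁻¹) * g⁻¹ * ((x * a * x⁻¹) ^ j)⁻¹ by rw [conj_zpow, ← e a ha]; group] at e1
  exact mul_inv_eq_one.1 ((h.inf_bot hB (h.pg_line hA hB n)).le
    (mem_inf.2 ⟨mul_mem (conj_mem_of_norm hg hb) (inv_mem (zpow_mem hb j)), e1⟩))

end W

theorem transfer_pow [Finite G] {M : Type*} [CommGroup M] (φ : H →* M) (hg : g ∈ H)
    (key : ∀ (n : ℕ) (y : G) (e : y⁻¹ * g ^ n * y ∈ H), φ ⟨_, e⟩ = φ ⟨g, hg⟩ ^ n) :
    MonoidHom.transfer φ g = φ ⟨g, hg⟩ ^ H.index := by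
  classical
  let := H.fintypeQuotientOfFiniteIndex
  rw [MonoidHom.transfer_eq_prod_quotient_orbitRel_zpowers_quot, index_eq_sum_minimalPeriod H g,
    ← Finset.prod_pow_eq_pow_sum]
  exact Finset.prod_congr rfl fun q _ => key _ _ _

namespace W

variable (h : W p r k D) [hp : Fact p.Prime] [hr : Fact r.Prime] [Finite G]
include h

theorem pow_index (ht : cl D ⊤ = ⊤) (hA : A ∈ D) (hg : g ∈ 𝐍(A)) : g ^ 𝐍(A).index ∈ 𝐂(A) := by
  have := h.cyc hA
  let φ : 𝐍(A) →* (ZMod (Nat.card A))ˣ := (IsCyclic.mulAutMulEquiv A).toMonoidHom.comp A.normalizerMonoidHom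
  have e1 := transfer_pow φ hg fun n y e => by
    rw [← map_pow]
    refine congrArg (IsCyclic.mulAutMulEquiv A) (MulEquiv.ext fun a => Subtype.ext ?_)
    obtain ⟨j, hj⟩ := MonoidHom.map_cyclic (A.normalizerMonoidHom (⟨g, hg⟩ ^ n)).toMonoidHom
    replace hj : ∀ a ∈ A, g ^ n * a * (g ^ n)⁻¹ = a ^ j := fun a ha => congrArg Subtype.val (hj ⟨a, ha⟩)
    have := h.lam hA (h.conj A hA y) (g := g ^ n) (by rwa [← conj_normalizer, mem_conj]) hj _ (conj_mem_conj.2 a.2)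
    change y⁻¹ * g ^ n * y * a * (y⁻¹ * g ^ n * y)⁻¹ = g ^ n * a * (g ^ n)⁻¹
    rw [hj a a.2, ← mul_left_cancel_iff (a := y), ← mul_right_cancel_iff (a := y⁻¹), ← conj_zpow, ← this]
    group
  have e2 : (⊤ : Subgroup G) ≤ (MonoidHom.transfer φ).ker := ht.ge.trans (cl_le_iff.2 fun B hB _ b hb => by
    refine orderOf_eq_one_iff.1 (Nat.eq_one_of_dvd_coprimes (a := p) (b := p - 1) ?_ ?_ ?_)
    · exact (Nat.coprime_self_sub_right hp.out.one_le).2 (by simp)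
    · exact (orderOf_map_dvd _ _).trans (h.card B hB ▸ orderOf_dvd_natCard B hb)
    · refine (orderOf_dvd_natCard (MonoidHom.transfer φ b)).trans ?_
      rw [← Nat.card_congr (IsCyclic.mulAutMulEquiv A).toEquiv, IsCyclic.card_mulAut, h.card A hA,
        Nat.totient_prime hp.out])
  rw [MonoidHom.mem_ker.1 (e2 (mem_top g)), ← map_pow, eq_comm] at e1
  have e3 : A.normalizerMonoidHom (⟨g, hg⟩ ^ 𝐍(A).index) = 1 := (map_eq_one_iff _ (IsCyclic.mulAutMulEquiv A).injective).1 e1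
  rw [← MonoidHom.mem_ker, normalizerMonoidHom_ker] at e3
  exact e3

omit hr in
theorem map_ne_bot {f : G →* G'} (hf : ∀ A ∈ D, ¬ A ≤ f.ker) (hA : A ∈ D) : Nat.card (A.map f) = p := by
  rw [← h.card A hA]
  exact (Nat.card_congr (mapEquiv f (inf_eq_bot_of_prime (h.prime hA) (hf A hA))).toEquiv).symm

/-- passage to a quotient -/
theorem map [Finite G'] {f : G →* G'} (hs : Function.Surjective f) (hf : ∀ A ∈ D, ¬ A ≤ f.ker) :
    W p r k (Subgroup.map f '' D) := by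
  have cj : ∀ (A : Subgroup G) (g : G), f g ⋆ A.map f = (g ⋆ A).map f := fun A g => by
    rw [map_map, map_map]; congr 1; ext x; simp
  have eq : ∀ A ∈ D, ∀ B ∈ D, B.map f ≤ A.map f → A.map f = B.map f := fun A hA B hB e =>
    (eq_of_le_of_card_le e (by rw [h.map_ne_bot hf hA, h.map_ne_bot hf hB])).symm
  have sd : ∀ A ∈ D, ∀ B ∈ D, A ≠ B → ∃ R : Subgroup G', IsPGroup r R ∧ SD R (A.map f) (A.map f ⊔ B.map f) := fun A hA B hB n => by
    obtain ⟨R, h1, h2⟩ := h.line A hA B hB n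
    refine ⟨R.map f, h1.map f, map_norm f h2.norm, ?_, by rw [← Subgroup.map_sup, h2.sup, Subgroup.map_sup]⟩
    exact disjoint_of_coprime (coprime_pgroups (h1.map f) ((h.pg hA).map f) h.ne)
  refine ⟨h.ne, h.p2, ?_, ?_, ?_, ?_, ?_⟩
  · rintro _ ⟨A, hA, rfl⟩; exact h.map_ne_bot hf hA
  · rintro _ ⟨A, hA, rfl⟩ g
    obtain ⟨g, rfl⟩ := hs g
    exact ⟨_, h.conj A hA g, (cj A g).symm⟩
  · rintro _ ⟨A, hA, rfl⟩ _ ⟨B, hB, rfl⟩ n
    exact sd A hA B hB fun e => n (e ▸ rfl)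
  · rintro _ ⟨A, hA, rfl⟩ _ ⟨B, hB, rfl⟩ _ ⟨C, hC, rfl⟩ n n' e
    have n1 : A ≠ B := fun e => n (e ▸ rfl)
    have s : Syl p _ _ := (h.syl hA hB hA n1 le_sup_left).map f
    rw [← Subgroup.map_sup] at e
    obtain ⟨_, ⟨x, hx, rfl⟩, e1⟩ := Syl.exists_conj_eq s (Syl.of_card_le' s ((h.pg hC).map f) e
      (by rw [h.map_ne_bot hf hA, h.map_ne_bot hf hC]))
    rw [e1, cj] at n' ⊢
    rw [← Subgroup.map_sup]
    exact map_mono (h.two A hA B hB _ (h.conj A hA x) n1 (fun e => n' (congrArg _ e)) (conj_le_of_mem le_sup_left hx))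
  · rintro _ ⟨A, hA, rfl⟩ _ ⟨B, hB, rfl⟩ n
    have n1 : A ≠ B := fun e => n (e ▸ rfl)
    rw [← Subgroup.map_sup, ← relIndex_comap, ← h.idx A hA B hB n1, ← inf_relIndex_right, ← inf_relIndex_right 𝐍(A)]
    congr 1
    refine le_antisymm (fun x hx => ⟨by_contra fun c => n (eq A hA B hB ?_), hx.2⟩)
      (inf_le_inf_right _ (map_le_iff_le_comap.1 (map_norm f le_rfl)))
    refine (map_mono (h.two A hA B hB _ (h.conj A hA x) n1 (fun e => c (norm_of_conj_eq e))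
      (conj_le_of_mem le_sup_left hx.2))).trans ?_
    rw [Subgroup.map_sup, ← cj, conj_eq_of_norm hx.1, sup_idem]

omit hp hr [Finite G] in
/-- passage to a subgroup -/
theorem comap {f : G' →* G} (hf : Function.Injective f) : W p r k {B : Subgroup G' | B.map f ∈ D} := by
  have cj : ∀ (A : Subgroup G') (g : G'), f g ⋆ A.map f = (g ⋆ A).map f := fun A g => by
    rw [map_map, map_map]; congr 1; ext x; simp
  have inj := map_injective hf
  refine ⟨h.ne, h.p2, fun A hA => (card_map_of_injective hf).symm.trans (h.card _ hA),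
    fun A hA g => show _ ∈ D from cj A g ▸ h.conj _ hA _, fun A hA B hB n => ?_, fun A hA B hB C hC n n' e => ?_,
    fun A hA B hB n => ?_⟩
  · obtain ⟨R, h1, h2⟩ := h.line _ hA _ hB (inj.ne n)
    have e : (R.comap f).map f = R := map_comap_eq_self (h2.left_le.trans (sup_le (map_le_range _ _) (map_le_range _ _)))
    refine ⟨R.comap f, h1.comap_of_injective f hf, (le_comap_map f A).trans (comap_le_norm f h2.norm), inj ?_, inj ?_⟩
    · rw [map_inf _ _ _ hf, e, h2.inf, Subgroup.map_bot]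
    · rw [Subgroup.map_sup, e, h2.sup, Subgroup.map_sup]
  · rw [← map_le_map_iff_of_injective hf, Subgroup.map_sup] at e ⊢
    exact h.two _ hA _ hB _ hC (inj.ne n) (inj.ne n') e
  · rw [← h.idx _ hA _ hB (inj.ne n), ← Subgroup.map_sup, ← relIndex_comap]
    congr 1
    ext x
    rw [mem_comap, ← conj_eq_self_iff, ← conj_eq_self_iff, cj, inj.eq_iff]

end W

end Cfsg.Lib.FSet
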