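import Cfsg.Agent.Lib.FSet.P4a

/-! F-sets with light lines only: the points act without fixed points. -/

set_option autoImplicit false
set_option linter.unusedSectionVars false

namespace Cfsg.Lib.FSet

open Subgroup Cfsg.Lib.BG Cfsg.Lib.Transfer
open scoped Cfsg.Lib.Transfer

universe u

variable {p r k : ℕ} [hp : Fact p.Prime] [hr : Fact r.Prime]

theorem light_aux (n : ℕ) : ∀ (G : Type u) [Group G] [Finite G] (A R : Subgroup G), Nat.card R = n → Full r A R →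
    (Nat.card A).Coprime (Nat.card R) → (∀ a ∈ A, ∃ b ∈ A, b * b = a) →
    (∀ s ∈ R, ∃ x ∈ R, ∃ c ∈ R ⊓ 𝐂(A), ∀ b ∈ A, Commute (s * (x * c * x⁻¹)) (b * (s * (x * c * x⁻¹)) * b⁻¹)) →
    R ⊓ 𝐂(A) = ⊥ := by
  induction n using Nat.strong_induction_on with | _ n ih => ?_
  rintro G _ _ A R rfl f cop sq h
  by_contra c
  have key : ∀ L ≤ R, R ≤ 𝐍(L) → A ≤ 𝐍(L) → L ≠ ⊥ → R ⊓ 𝐂(A) ≤ L := fun L l n1 n2 n => by
    have e := coprime_quo_cent f.2.1 n2 n1 cop (.inr (pgroup_sol f.1))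
    refine (quo_eq_bot_iff (inf_le_left.trans n1)).1 (e ▸ ih _ ?_ _ _ _ rfl
      ⟨pgroup_quo f.1 L, quo_norm f.2.1 L, by rw [← quo_comm n1 n2, f.2.2]⟩ (coprime_quo cop L) ?_ ?_)
    · rw [← card_quo_mul ⟨l, n1⟩]
      exact lt_mul_left Nat.card_pos (lt_of_le_of_ne Nat.card_pos (card_ne_one n).symm)
    · intro a' ha'
      obtain ⟨a, ha, rfl⟩ := mem_quo.1 ha'
      obtain ⟨b, hb, e⟩ := sq a ha
      exact ⟨_, mem_quo.2 ⟨⟨b, n2 hb⟩, hb, rfl⟩, by rw [← map_mul]; exact congrArg _ (Subtype.ext e)⟩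
    · intro s' hs'
      obtain ⟨s, hs, rfl⟩ := mem_quo.1 hs'
      obtain ⟨x, hx, c, hc, k⟩ := h s hs
      refine ⟨_, mem_quo.2 ⟨⟨x, n1 hx⟩, hx, rfl⟩, _, e ▸ mem_quo.2 ⟨⟨c, n1 hc.1⟩, hc, rfl⟩, fun b' hb' => ?_⟩
      obtain ⟨b, hb, rfl⟩ := mem_quo.1 hb'
      simp only [← map_inv, ← map_mul]
      refine Commute.map ?_ _
      exact Subtype.ext (k b hb)
  have n1 : R ≤ 𝐍(𝐙(R)) := norm_center (le_norm R)
  have n2 : A ≤ 𝐍(𝐙(R)) := norm_center f.2.1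
  have l := key _ inf_le_left n1 n2 (center_ne_bot_of_nil (pgroup_nil f.1) (ne_bot_mono c inf_le_left))
  have z : A ≤ 𝐂(𝐙(R)) := comm_eq_bot_iff'.1 (by_contra fun q => c (eq_bot_mono (coprime_abelian_cent_dprod n2
    (coprime_mono cop le_rfl inf_le_left) (abelian_center R)).sd.inf (le_inf (key _ ((comm_le_left n2).trans inf_le_left)
      (norm_of_cent (cent_symm ((comm_le_left n2).trans inf_le_right))) (right_norm_comm _ _) q) (le_inf l inf_le_right))))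
  have cm : ∀ s ∈ R, ∀ b ∈ A, Commute s (b * s * b⁻¹) := fun s hs b hb => by
    obtain ⟨x, hx, c, hc, k⟩ := h s hs
    have e := k b hb
    rw [(l hc).2 x hx, mul_inv_cancel_right, show b * (s * c) * b⁻¹ = b * s * b⁻¹ * (b * c * b⁻¹) by group, hc.2 b hb,
      mul_inv_cancel_right] at e
    have c1 : Commute s c := (l hc).2 s hs
    have c2 : Commute (b * s * b⁻¹) c := (l hc).2 _ (conj_mem_of_norm (f.2.1 hb) hs)
    have := (e.mul_left (c2.symm.mul_right (.refl c)).inv_left).mul_right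
      ((c1.mul_left (.refl c)).mul_left (Commute.refl c).inv_left).inv_right
    simpa using this
  have k1 := nil_meet_center (nil_quo (pgroup_nil f.1) 𝐙(R)) le_rfl (le_norm _) fun q => c (eq_bot_mono
    (f.2.2.symm.trans (comm_eq_bot_iff'.2 (z.trans (cent_anti ((quo_eq_bot_iff n1).1 q))))) inf_le_left)
  rw [← quo_copre 𝐂(quo R 𝐙(R)), ← quo_inf_of_le_right (le_copre _)] at k1
  set K := R ⊓ copre 𝐙(R) 𝐂(quo R 𝐙(R))
  have lK : K ≤ R := inf_le_left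
  have nK : A ≤ 𝐍(K) := norm_inf f.2.1 (norm_copre n2 (norm_cent (quo_norm f.2.1 _)))
  have k2 : ⁅K, R⁆ ≤ 𝐙(R) := (quo_le_cent_iff (lK.trans n1) n1).1 ((le_copre_iff (lK.trans n1)).1 inf_le_right)
  refine k1 (quo_eq_bot ((le_inf lK (cent_symm (stable_factor_cent (comm_le_iff.2 fun s hs a ha => ?_) z
    (coprime_mono cop le_rfl inf_le_left)))).trans l))
  obtain ⟨b, hb, rfl⟩ := sq a ha
  replace hs := inv_mem hs
  rw [← inv_inv s]
  generalize s⁻¹ = s at hs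
  have h1 := conj_mem_of_norm (nK hb) hs
  have h2 := conj_mem_of_norm' (nK hb) hs
  have w : (b⁻¹ * s * b)⁻¹ * (b * s * b⁻¹) ∈ 𝐙(R) := mem_inf.2 ⟨mul_mem (inv_mem (lK h2)) (lK h1), fun u hu => by
    have hu' := conj_mem_of_norm (f.2.1 hb) hu
    have e1 := (k2 (comm_mem_comm h1 hu)).2
    have e2 := (k2 (comm_mem_comm hs hu')).2
    have e3 := cent_symm z (k2 (comm_mem_comm h2 hu)) b hb
    have e4 := (cm _ (mul_mem (lK hs) hu) b hb).eq
    have e5 := (cm _ (lK hs) b hb).eq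
    have e6 := (cm _ hu b hb).eq
    rw [show b * (s * u) * b⁻¹ = (b * s * b⁻¹) * (b * u * b⁻¹) by group] at e4
    have e7 : b⁻¹ * s * b * u * (b⁻¹ * s * b)⁻¹ * u⁻¹ = s * (b * u * b⁻¹) * s⁻¹ * (b * u * b⁻¹)⁻¹ := by
      rw [← mul_right_cancel_iff (a := b), ← e3]; group
    replace e1 := e1 s (lK hs)
    replace e2 := e2 _ (lK h1)
    generalize b * s * b⁻¹ = s₁ at *
    generalize b * u * b⁻¹ = u₁ at *
    generalize b⁻¹ * s * b = s₂ at *
    have e8 : s₁ * u * s₁⁻¹ * u⁻¹ = s * u₁ * s⁻¹ * u₁⁻¹ := by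
      rw [← inv_inj, ← mul_left_inj (s * s₁ * (u * u₁))]
      calc _ = (s₁ * u * s₁⁻¹ * u⁻¹)⁻¹ * (s * (s₁ * u * s₁⁻¹ * u⁻¹)) * (u * s₁ * u⁻¹ * u * u₁) := by group
        _ = s * u * (s₁ * u₁) := by rw [e1]; group
        _ = (s * u₁ * s⁻¹ * u₁⁻¹)⁻¹ * (s * u₁ * s⁻¹ * u₁⁻¹ * s₁) * (u₁ * s * u) := by rw [e4]; group
        _ = _ := by rw [← e2, e5, e6]; group
    rw [← e7] at e8
    calc _ = s₂⁻¹ * (s₂ * u * s₂⁻¹ * u⁻¹) * u * s₁ := by group
      _ = _ := by rw [← e8]; group⟩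
  convert conj_mem_of_norm (n2 hb) w using 1
  group

variable {G : Type*} [Group G] [Finite G] {D : Set (Subgroup G)}

theorem W.sd' (h : W p r k D) {A B : Subgroup G} (hA : A ∈ D) (hB : B ∈ D) : SD (rd D (A ⊔ B)) A (A ⊔ B) := by
  have g := h.good_line hA hB
  have := SD.of_coprime (h.full hA le_sup_left g).2.1 (h.cop hA g).symm
  rwa [← h.cl_eq hA le_sup_left, cl_line hA hB] at this

theorem W.m1_of_light (h : W p r k D) (e : ∀ A ∈ D, ∀ B ∈ D, A ≠ B → zd D (A ⊔ B) = ⊥) : M1 r D := fun A hA R f => by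
  have e1 : rd D (R ⊔ A) = R := (h.rd_sup hA f.1 f.2.1).trans f.2.2
  have g : IsPGroup r (rd D (R ⊔ A)) := e1.symm ▸ f.1
  have e2 : cl D (R ⊔ A) = R ⊔ A := by rw [h.cl_eq hA le_sup_right, e1]
  refine light_aux _ G A R rfl f (h.cop hA f.1) (fun a ha => ⟨a ^ ((p + 1) / 2), pow_mem ha _, ?_⟩) fun s hs => ?_
  · rw [← pow_add, show (p + 1) / 2 + (p + 1) / 2 = p + 1 by have := hp.out.eq_two_or_odd.resolve_left h.p2; omega,
      pow_succ, h.pow_one hA ha, one_mul]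
  obtain ⟨a, ha, a1⟩ := exists_ne_one (h.ne_bot hA)
  obtain ⟨v, hv, -, hB, c⟩ := h.pp g (e2.ge (mul_mem (mem_sup_right ha) (mem_sup_left hs))) fun q =>
    a1 (h.eq_one hA f.1 ha ((mul_mem_cancel_right hs).1 (e1.le q)))
  obtain ⟨x, hx, q⟩ := h.exists_conj hA hB le_sup_right
    (zpowers_le.2 (zpowers_le.2 (mul_mem (mem_sup_right ha) (mem_sup_left hs)) hv))
  rw [e1] at hx c
  refine ⟨x, hx, x⁻¹ * (v⁻¹ * (a * s))⁻¹ * x, mem_inf.2 ⟨mul_mem (mul_mem (inv_mem hx) (inv_mem c)) hx, ?_⟩, fun b hb => ?_⟩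
  · rw [← mem_conj, conj_centralizer, q, cent_zpowers]
    exact inv_mem (mul_mem (inv_mem (self_mem_cent1 v)) (mem_cent1_symm (zpowers_le.2 (self_mem_cent1 _) hv)))
  have t := mul_mem hs (inv_mem c)
  rw [show s * (x * (x⁻¹ * (v⁻¹ * (a * s))⁻¹ * x) * x⁻¹) = a⁻¹ * v by group]
  rw [show s * (v⁻¹ * (a * s))⁻¹ = a⁻¹ * v by group] at t
  have s := h.sd' hA hB
  obtain ⟨y, hy, a', ha', q'⟩ := s.mem (mul_mem (mem_sup_left (inv_mem ha)) (mem_sup_right (mem_zpowers v)))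
  have l : rd D (A ⊔ zpowers v) ≤ R := (rd_mono (cl_le.trans (sup_le le_sup_right (q ▸ conj_le_of_mem le_sup_right
    (mem_sup_left hx))))).trans e1.le
  rw [← q'] at t ⊢
  rw [h.eq_one hA f.1 ha' ((mul_mem_cancel_left (l hy)).1 t), mul_one]
  by_cases n : A = zpowers v
  · rw [← n, h.rd_self hA, mem_bot] at hy
    simp [hy]
  · exact abelian_cent (abelian_iff_der.2 (e A hA _ hB n)) (conj_mem_of_norm (s.norm hb) hy) y hy

end Cfsg.Lib.FSet
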