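import Cfsg.Agent.Lib.FSet.Mode

/-! F-sets: solvable subspaces, quotients and subgroups (`docs/FSET.md`). -/

set_option autoImplicit false
set_option linter.unusedSectionVars false

namespace Cfsg.Lib.FSet

open Subgroup Cfsg.Lib.BG Cfsg.Lib.Transfer
open scoped Cfsg.Lib.Transfer

variable {G : Type*} [Group G] {G' : Type*} [Group G'] {p r k : ℕ} {D : Set (Subgroup G)}
  {A B C H K L N R : Subgroup G} {a b g x y z : G}

theorem zd_le_rd : zd D H ≤ rd D H := der_le _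
theorem zd_mono (h : cl D H ≤ K) : zd D H ≤ zd D K := der_mono (rd_mono h)
theorem cl_line (hA : A ∈ D) (hB : B ∈ D) : cl D (A ⊔ B) = A ⊔ B :=
  le_antisymm cl_le (sup_le (le_cl hA le_sup_left) (le_cl hB le_sup_right))

theorem cl_comap {f : G' →* G} (hf : Function.Injective f) (H : Subgroup G') :
    (cl {B : Subgroup G' | B.map f ∈ D} H).map f = cl D (H.map f) := by
  refine le_antisymm (map_le_iff_le_comap.2 (cl_le_iff.2 fun B hB e => map_le_iff_le_comap.1 (le_cl hB (map_mono e))))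
    (cl_le_iff.2 fun B hB e => ?_)
  have k := map_comap_eq_self (e.trans (map_le_range f H))
  rw [← k] at e ⊢
  exact map_mono (le_cl (show _ ∈ D from k.symm ▸ hB) ((map_le_map_iff_of_injective hf).1 e))

theorem rd_comap {f : G' →* G} (hf : Function.Injective f) (H : Subgroup G') :
    (rd {B : Subgroup G' | B.map f ∈ D} H).map f = rd D (H.map f) := by
  rw [rd, map_commutator, cl_comap hf, rd]

theorem cl_map (f : G →* G') (H : Subgroup G') : cl (Subgroup.map f '' D) H = (cl D (H.comap f)).map f :=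
  le_antisymm (cl_le_iff.2 fun _ ⟨_, hB, e⟩ l => e ▸ map_mono (le_cl hB (map_le_iff_le_comap.1 (e ▸ l))))
    (map_le_iff_le_comap.2 (cl_le_iff.2 fun B hB e => map_le_iff_le_comap.1
      (le_cl ⟨B, hB, rfl⟩ (map_le_iff_le_comap.2 e))))

theorem rd_map (f : G →* G') (H : Subgroup G') : rd (Subgroup.map f '' D) H = (rd D (H.comap f)).map f := by
  rw [rd, cl_map, rd, map_commutator]

theorem zd_map (f : G →* G') (H : Subgroup G') : zd (Subgroup.map f '' D) H = (zd D (H.comap f)).map f := by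
  rw [zd, rd_map, zd, map_commutator]

theorem zd_comap {f : G' →* G} (hf : Function.Injective f) (H : Subgroup G') :
    (zd {B : Subgroup G' | B.map f ∈ D} H).map f = zd D (H.map f) := by
  rw [zd, map_commutator, rd_comap hf, zd]

theorem zd_cl : zd D (cl D H) = zd D H := by rw [zd, rd_cl, zd]

theorem Full.map (h : Full r A R) (f : G →* G') : Full r (A.map f) (R.map f) :=
  ⟨h.1.map f, map_norm f h.2.1, by rw [← map_commutator, h.2.2]⟩

theorem der_sup_le' (hn : A ≤ 𝐍(N)) (hA : IsMulCommutative A) : ⁅N ⊔ A, N ⊔ A⁆ ≤ N := comm_le_iff.2 fun x hx y hy => by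
  obtain ⟨n, hn', a, ha, rfl⟩ := (mem_sup_left_norm hn).1 hx
  obtain ⟨m, hm, b, hb, rfl⟩ := (mem_sup_left_norm hn).1 hy
  have := mul_mem (mul_mem (mul_mem hn' (conj_mem_of_norm (hn ha) hm)) (conj_mem_of_norm (hn hb) (inv_mem hn'))) (inv_mem hm)
  convert this using 1
  calc _ = n * (a * m * a⁻¹) * ((a * b) * a⁻¹ * n⁻¹ * b⁻¹) * m⁻¹ := by group
    _ = _ := by rw [abelian_cent hA hb a ha]; group

theorem comm_sup_le' (hn : A ≤ 𝐍(N)) (hA : IsMulCommutative A) : ⁅N ⊔ A, A⁆ ≤ ⁅N, A⁆ := comm_le_iff.2 fun x hx b hb => by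
  obtain ⟨n, hn', a, ha, rfl⟩ := (mem_sup_left_norm hn).1 hx
  convert comm_mem_comm hn' hb using 1
  rw [mul_assoc n a, abelian_cent hA hb a ha]
  group

theorem sol_sup' (hN : Group.IsSolvable N) (hK : Group.IsSolvable K) (h : K ≤ 𝐍(N)) : Group.IsSolvable ↥(N ⊔ K) :=
  copre_quo h ▸ sol_copre hN (sol_quo hK N)

theorem eq_bot_of_perfect (hs : Group.IsSolvable K) (h : K ≤ ⁅K, K⁆) : K = ⊥ := by
  by_contra n
  have : Nontrivial K := (nontrivial_iff_ne_bot K).2 n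
  refine (IsSolvable.commutator_lt_top_of_nontrivial K).ne (top_le_iff.1 ?_)
  rw [commutator_def, ← subgroupOf_self, ← subOf_comm le_rfl le_rfl]
  exact comap_mono h

theorem M1.comap (h : M1 r D) {f : G' →* G} (hf : Function.Injective f) : M1 r {B : Subgroup G' | B.map f ∈ D} :=
  fun A hA R k => (map_eq_bot_iff_of_injective _ hf).1 (eq_bot_mono (h _ hA _ (k.map f))
    (le_inf (map_mono inf_le_left) ((map_mono inf_le_right).trans (map_cent f le_rfl))))

theorem M2.comap (h : M2 r D) {f : G' →* G} (hf : Function.Injective f) : M2 r {B : Subgroup G' | B.map f ∈ D} :=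
  fun A hA R k => by
    have := h _ hA _ (k.map f)
    rw [← map_commutator, le_inf_iff, map_le_cent_iff, map_le_cent_iff, (MonoidHom.ker_eq_bot_iff f).2 hf,
      le_bot_iff, le_bot_iff, comm_eq_bot_iff, comm_eq_bot_iff] at this
    exact le_inf this.1 this.2

variable [hp : Fact p.Prime] [hr : Fact r.Prime] [Finite G]

namespace W

variable (h : W p r k D)
include h

theorem conj_zd (g : G) (H : Subgroup G) : g ⋆ zd D H = zd D (g ⋆ H) := by
  rw [zd, conj_commutator, h.conj_rd, zd]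

theorem norm_zd (e : K ≤ 𝐍(H)) : K ≤ 𝐍(zd D H) := norm_der (h.norm_rd e)

theorem good_line (hA : A ∈ D) (hB : B ∈ D) : IsPGroup r (rd D (A ⊔ B)) := by
  rw [rd, cl_line hA hB]
  by_cases n : A = B
  · rw [← n, sup_idem, abelian_iff_der.1 (h.ab hA)]; exact IsPGroup.of_bot
  · exact h.pg_line hA hB n

/-- an `r`-group normalized by a point: `[R, A]` is the `rd` of the subspace in `R A` -/
theorem rd_sup (hA : A ∈ D) (hR : IsPGroup r R) (e : A ≤ 𝐍(R)) : rd D (R ⊔ A) = ⁅R, A⁆ := by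
  refine le_antisymm ((der_mono (cl_le_iff.2 fun B hB l => ?_)).trans (der_sup_le' (right_norm_comm R A) (h.ab hA))) ?_
  · obtain ⟨x, hx, rfl⟩ := h.conj_line hA hB
    exact conj_le_of_mem le_sup_right (mem_sup_left (comm_sup_le' e (h.ab hA)
      (commutator_mono (sup_le le_sup_right l) le_rfl hx)))
  · rw [← coprime_commGid e (h.cop hA hR)]
    refine comm_le_der (comm_le_iff.2 fun x hx a ha => mul_mem ?_ (inv_mem (le_cl hA le_sup_right ha))) (le_cl hA le_sup_right)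
    exact le_cl (h.conj A hA x) (conj_le_of_mem le_sup_right (mem_sup_left hx)) (conj_mem_conj.2 ha)

theorem full (hA : A ∈ D) (e : A ≤ H) (g : IsPGroup r (rd D H)) : Full r A (rd D H) :=
  have n := (le_cl hA e).trans cl_norm_rd
  ⟨g, n, by rw [← h.rd_sup hA g n, ← h.cl_eq hA e, rd_cl]⟩

theorem full_comm (hA : A ∈ D) (hR : IsPGroup r R) (e : A ≤ 𝐍(R)) : Full r A ⁅R, A⁆ :=
  ⟨hR.to_le (comm_le_left e), right_norm_comm R A, coprime_commGid e (h.cop hA hR)⟩

theorem cent_le_der (hA : A ∈ D) (f : Full r A R) : R ⊓ 𝐂(A) ≤ ⁅R, R⁆ := by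
  have n1 : R ≤ 𝐍(⁅R, R⁆) := norm_der (le_norm R)
  have n2 := norm_der f.2.1
  have d := coprime_abelian_cent_dprod (quo_norm f.2.1 ⁅R, R⁆) (coprime_quo (h.cop hA f.1) _) ((quo_abelian_iff n1).2 le_rfl)
  rw [← quo_comm n1 n2, f.2.2] at d
  refine (quo_eq_bot_iff (inf_le_left.trans n1)).1 (eq_bot_mono d.sd.inf (le_inf (quo_mono inf_le_left _)
    (le_inf (quo_mono inf_le_left _) (quo_cent inf_le_right _))))

theorem norm_le_cent (hA : A ∈ D) (hR : IsPGroup r R) (e : A ≤ 𝐍(R)) : R ⊓ 𝐍(A) ≤ 𝐂(A) :=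
  (coprime_norm_cent e (h.cop hA hR)).le.trans inf_le_right

theorem inf_rd (hA : A ∈ D) (e : A ≤ H) (hs : Group.IsSolvable (cl D H)) : A ⊓ rd D H = ⊥ :=
  inf_eq_bot_of_prime (h.prime hA) fun l => h.ne_bot hA (eq_bot_mono
    (eq_bot_of_perfect hs ((h.cl_eq hA e).le.trans (sup_le le_rfl l))) (le_cl hA e))

/-- if `A` avoids the derived subgroup, the commutators `[x, a]` are `r`-elements -/
theorem comm_mem (hA : A ∈ D) (e : A ≤ L) (i : A ⊓ ⁅L, L⁆ = ⊥) (hx : x ∈ L) (ha : a ∈ A) :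
    x * a * x⁻¹ * a⁻¹ ∈ rd D (A ⊔ x ⋆ A) := by
  obtain ⟨y, hy, k⟩ := h.exists_conj hA (h.conj A hA x) le_sup_left le_sup_right
  have yL : y ∈ L := (rd_le.trans (sup_le e (conj_le_of_mem e hx))) hy
  have n : y⁻¹ * x ∈ 𝐍(A) := norm_of_conj_eq (by rw [← conj_conj, ← k, inv_conj_conj])
  have k' := mem_bot.1 (i.le (mem_inf.2 ⟨mul_mem (conj_mem_of_norm n ha) (inv_mem ha),
    comm_mem_comm (mul_mem (inv_mem yL) hx) (e ha)⟩))
  rw [show x * a * x⁻¹ * a⁻¹ = y * (y⁻¹ * x * a * (y⁻¹ * x)⁻¹ * a⁻¹) * (a * y⁻¹ * a⁻¹) by group, k', mul_one]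
  exact mul_mem hy (conj_mem_of_norm (cl_norm_rd (le_cl hA le_sup_left ha)) (inv_mem hy))

/-- S1 -/
theorem sol (hs : Group.IsSolvable (cl D H)) : IsPGroup r (rd D H) := by
  set L := cl D H
  have n := (pcore_nml {r} L).norm
  have k : L ≤ copre 𝐎({r}, L) 𝐂(𝐅(quo L 𝐎({r}, L))) := cl_le_iff.2 fun A hA e => by
    have eL : A ≤ L := le_cl hA e
    refine (le_copre_iff (eL.trans n)).2 (cent_symm (comm_eq_bot_iff.1 (eq_bot_iff.2 (comm_le_iff.2 fun x hx a ha => ?_))))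
    have k1 := comm_le_left ((quo_mono eL _).trans (Fitting_nml _).norm) (comm_mem_comm hx ha)
    obtain ⟨x, hx', rfl⟩ := mem_quo.1 (Fitting_le _ hx)
    obtain ⟨a, ha', rfl⟩ := mem_quo.1 ha
    refine (pcore_quo_pcore {r} L).le (le_pcore_of_le_Fitting (zpowers_le.2 k1) ((pgroup_quo (h.good_line hA
      (h.conj A hA x)) _).to_le (zpowers_le.2 (mem_quo.2 ⟨x * a * x⁻¹ * a⁻¹,
        h.comm_mem hA eL (h.inf_rd hA e hs) hx' ha', by simp⟩))) (mem_zpowers _))
  replace k := (le_copre_iff n).1 k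
  exact (pcore_pgroup r L).to_le ((quo_abelian_iff n).1 (abelian_iff.2 (k.trans (cent_anti
    ((le_inf le_rfl k).trans (cent_sub_Fitting (sol_quo hs _)))))))

theorem sol_of_good (g : IsPGroup r (rd D H)) : Group.IsSolvable (cl D H) := by
  by_cases e : ∃ A ∈ D, A ≤ H
  · obtain ⟨A, hA, e⟩ := e
    exact h.cl_eq hA e ▸ sol_sup' (pgroup_sol g) (pgroup_sol (h.pg hA)) ((le_cl hA e).trans cl_norm_rd)
  · rw [show cl D H = ⊥ from eq_bot_iff.2 (cl_le_iff.2 fun A hA l => (e ⟨A, hA, l⟩).elim)]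
    infer_instance

theorem good_of_sol (hs : Group.IsSolvable H) : IsPGroup r (rd D H) := h.sol (sol_of_le hs cl_le)

theorem good_sup (hA : A ∈ D) (hR : IsPGroup r R) (e : A ≤ 𝐍(R)) : IsPGroup r (rd D (R ⊔ A)) :=
  h.rd_sup hA hR e ▸ hR.to_le (comm_le_left e)

/-- B7 -/
theorem uv (hA : A ∈ D) (hB : B ∈ D) (hC : C ∈ D) (n : A ≠ B) (ha : a ∈ A) (hb : b ∈ B) (b1 : b ≠ 1)
    (e : a * b ∈ 𝐍(C)) : C ≤ A ⊔ B := by
  by_contra c
  have cA : C ≠ A := fun e => c (e ▸ le_sup_left)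
  have cB : C ≠ B := fun e => c (e ▸ le_sup_right)
  have e1 : b ⋆ C = a⁻¹ ⋆ C := by rw [← conj_eq_of_norm e, conj_conj, conj_conj, inv_mul_cancel_left, ← conj_conj,
    conj_eq_of_norm e]
  have n' : b ⋆ C ≠ C := fun k => cB (h.eq_of_norm hC hB ((zpowers_eq_of_prime (h.prime hB) hb b1).ge.trans
    (zpowers_le.2 (norm_of_conj_eq k))))
  have l1 := h.line_eq hC hB (h.conj C hC b) cB n' (conj_le_of_mem le_sup_left (mem_sup_right hb))
  have l2 := h.line_eq hC hA (h.conj C hC b) cA n' (e1 ▸ conj_le_of_mem le_sup_left (mem_sup_right (inv_mem ha)))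
  exact c ((h.line_eq' hC hB hA hB cB n (l1 ▸ l2 ▸ le_sup_right) le_sup_right).ge.trans' le_sup_left)

/-- the element of `B` parallel to `a` -/
theorem par (hA : A ∈ D) (hB : B ∈ D) (ha : a ∈ A) : ∃ b ∈ B, a⁻¹ * b ∈ rd D (A ⊔ B) := by
  obtain ⟨x, hx, rfl⟩ := h.exists_conj hA hB le_sup_left le_sup_right
  refine ⟨_, conj_mem_conj.2 ha, ?_⟩
  rw [show a⁻¹ * (x * a * x⁻¹) = a⁻¹ * x * a * x⁻¹ by group]
  exact mul_mem (conj_mem_of_norm' (cl_norm_rd (le_cl hA le_sup_left ha)) hx) (inv_mem hx)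

/-- with heavy lines an abelian `r`-group normalized by a point is centralized by it -/
theorem cent_of_heavy (e : ∀ A ∈ D, ∀ B ∈ D, A ≠ B → zd D (A ⊔ B) ≠ ⊥) (hA : A ∈ D) (hR : IsPGroup r R)
    (n : A ≤ 𝐍(R)) (ab : IsMulCommutative R) : R ≤ 𝐂(A) := by
  refine (le_inf le_rfl fun x hx => norm_of_conj_eq (by_contra fun c => e A hA _ (h.conj A hA x) (Ne.symm c)
    (abelian_iff_der.1 (abelian_of_le ab ?_)))).trans (h.norm_le_cent hA hR n)
  exact (rd_mono (cl_le.trans (sup_le le_sup_right (conj_le_of_mem le_sup_right (mem_sup_left hx))))).trans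
    ((h.rd_sup hA hR n).le.trans (comm_le_left n))

theorem m2_of_heavy (e : ∀ A ∈ D, ∀ B ∈ D, A ≠ B → zd D (A ⊔ B) ≠ ⊥) : M2 r D := fun A hA R f => by
  have key : ∀ E ≤ R, A ≤ 𝐍(E) → R ≤ 𝐍(E) → IsMulCommutative E → E ≤ 𝐂(R) ⊓ 𝐂(A) := fun E h1 h2 h3 h4 => by
    have k := h.cent_of_heavy e hA (f.1.to_le h1) h2 h4
    refine le_inf (cent_symm (f.2.2.ge.trans (comm_le_iff.2 fun x hx a ha => ?_))) k
    exact mul_mem (conj_mem_of_norm (norm_cent h3 hx) (cent_symm k ha)) (inv_mem (cent_symm k ha))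
  have n1 : R ≤ 𝐍(𝐙(R)) := norm_center (le_norm R)
  have n2 : A ≤ 𝐍(𝐙(R)) := norm_center f.2.1
  have k : ⁅R, R⁆ ≤ 𝐙(R) := (quo_eq_bot_iff ((der_le R).trans n1)).1 (by_contra fun c => by
    have k1 := nil_meet_center (nil_quo (pgroup_nil f.1) 𝐙(R)) (quo_mono (der_le R) _)
      (quo_norm (norm_der (le_norm R)) _) c
    rw [← quo_copre 𝐂(quo R 𝐙(R)), ← quo_inf_of_le_right (le_copre _)] at k1
    set E := ⁅R, R⁆ ⊓ copre 𝐙(R) 𝐂(quo R 𝐙(R))
    have l : E ≤ R := inf_le_left.trans (der_le R)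
    have k2 : ⁅⁅E, R⁆, R⁆ ≤ ⊥ := (comm_eq_bot_iff.2 (((quo_le_cent_iff (l.trans n1) n1).1
      ((le_copre_iff (l.trans n1)).1 inf_le_right)).trans inf_le_right)).le
    have k3 : ⁅⁅R, R⁆, E⁆ ≤ ⊥ := Core.three_subgroups le_normalizer_of_normal le_normalizer_of_normal
      le_normalizer_of_normal
      (by rwa [commutator_comm R]) k2
    exact k1 (quo_eq_bot (le_inf l ((key E l
      (norm_inf (norm_der f.2.1) (norm_copre n2 (norm_cent (quo_norm f.2.1 _))))
      (norm_inf (norm_der (le_norm R)) (norm_copre n1 (norm_cent (le_norm _))))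
      (abelian_iff.2 (inf_le_left.trans (comm_eq_bot_iff.1 (le_bot_iff.1 k3))))).trans inf_le_left))))
  exact key _ (der_le R) (norm_der f.2.1) (norm_der (le_norm R)) (abelian_of_le (abelian_center R) k)

theorem not_le_ker {f : G →* G'} (hA : A ∈ D) (e : ¬ A ≤ f.ker) : ∀ B ∈ D, ¬ B ≤ f.ker := fun B hB l => by
  obtain ⟨x, -, rfl⟩ := h.conj_line hB hA
  exact e (conj_le_of_norm l (le_normalizer_of_normal (mem_top x)))

theorem lift [Finite G'] {f : G →* G'} (hs : Function.Surjective f) (hk : Group.IsSolvable f.ker) (hA : A ∈ D)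
    {R' : Subgroup G'} (k : Full r (A.map f) R') : ∃ R, Full r A R ∧ R.map f = R' := by
  by_cases e : A ≤ f.ker
  · refine ⟨⊥, ⟨IsPGroup.of_bot, le_normalizer_of_normal, by simp⟩, ?_⟩
    rw [← k.2.2, (map_eq_bot_iff A).2 e, commutator_bot_right, Subgroup.map_bot]
  have w := h.map hs (h.not_le_ker hA e)
  refine ⟨_, h.full hA (map_le_iff_le_comap.1 le_sup_right) (h.good_of_sol (Core.isSolvable_comap _
    (sol_sup' (pgroup_sol k.1) (pgroup_sol (w.pg ⟨A, hA, rfl⟩)) k.2.1) hk)), ?_⟩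
  rw [← rd_map, w.rd_sup ⟨A, hA, rfl⟩ k.1 k.2.1, k.2.2]

theorem m1_map [Finite G'] (m : M1 r D) {f : G →* G'} (hs : Function.Surjective f) (hk : Group.IsSolvable f.ker) :
    M1 r (Subgroup.map f '' D) := by
  rintro _ ⟨A, hA, rfl⟩ R k
  obtain ⟨R, k', rfl⟩ := h.lift hs hk hA k
  rw [coprime_map_cent f k'.2.1 (h.cop hA k'.1) (.inr (pgroup_sol k'.1)), m A hA R k', Subgroup.map_bot]

theorem m2_map [Finite G'] (m : M2 r D) {f : G →* G'} (hs : Function.Surjective f) (hk : Group.IsSolvable f.ker) :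
    M2 r (Subgroup.map f '' D) := by
  rintro _ ⟨A, hA, rfl⟩ R k
  obtain ⟨R, k', rfl⟩ := h.lift hs hk hA k
  rw [← map_commutator]
  exact le_inf (map_cent f ((m A hA R k').trans inf_le_left)) (map_cent f ((m A hA R k').trans inf_le_right))

theorem zd_cent (m : M2 r D) (g : IsPGroup r (rd D H)) : zd D H ≤ 𝐂(cl D H) :=
  cent_symm (cl_le_iff.2 fun A hA e => cent_symm ((m A hA _ (h.full hA e g)).trans inf_le_right))

theorem zd_eq (m : M2 r D) (hA : A ∈ D) (e : A ≤ H) (g : IsPGroup r (rd D H)) : zd D H = rd D H ⊓ 𝐂(A) :=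
  le_antisymm (le_inf zd_le_rd ((m A hA _ (h.full hA e g)).trans inf_le_right)) (h.cent_le_der hA (h.full hA e g))

end W

end Cfsg.Lib.FSet
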