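import Cfsg.Agent.Lib.FSet.P4d
import Cfsg.Agent.Lib.Core.MinNormal
import Mathlib.RepresentationTheory.Basic

/-! F-sets, part IV: the structure theorem in mode `M2`, characteristic two. -/

set_option autoImplicit false
set_option linter.unusedSectionVars false

namespace Cfsg.Lib.FSet

open Subgroup Cfsg.Lib.BG Cfsg.Lib.Transfer
open scoped Cfsg.Lib.Transfer

section Ring

variable {E : Type*} [Ring E] {a b c e : E}

/-- the projection onto the commutator space of an element of order three -/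
def prj (a : E) : E := a + a * a

theorem prj_comm (a : E) : a * prj a = prj a * a := by simp only [prj]; noncomm_ring

theorem prj_sq (two : ∀ x : E, x + x = 0) (ha : a * a * a = 1) : prj a * prj a = prj a := by
  calc _ = a * a + (a * a * a + a * a * a) + a * a * a * a := by simp only [prj]; noncomm_ring
    _ = _ := by rw [two, ha, prj]; noncomm_ring

theorem prj_rel (two : ∀ x : E, x + x = 0) (ha : a * a * a = 1) (h1 : a * e = e) (h2 : b * e = e)
    (h3 : a * prj a = b * prj a + e) :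
    prj b * a * prj a = b * prj b * prj a ∧ prj a * prj b * prj a = prj a := by
  have k1 : prj a * e = 0 := by rw [prj, add_mul, mul_assoc, h1, h1, two]
  have k2 : prj b * e = 0 := by rw [prj, add_mul, mul_assoc, h2, h2, two]
  refine ⟨by rw [mul_assoc, h3, mul_add, k2, add_zero, prj_comm b, mul_assoc], ?_⟩
  have k3 : a * a * prj a = b * b * prj a + e + e * a := by
    calc _ = a * prj a * a := by rw [mul_assoc, mul_assoc, prj_comm]
      _ = b * (a * prj a) + e * a := by rw [prj_comm a, ← mul_assoc b, ← add_mul, ← h3, prj_comm a]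
      _ = _ := by rw [h3, mul_add, h2, mul_assoc]
  have k4 : prj b * prj a = prj a * prj a + e * a := by
    have : prj a * prj a = prj b * prj a + e * a + (e + e) := by
      calc _ = a * prj a + a * a * prj a := by rw [← add_mul]; rfl
        _ = _ := by rw [k3, h3, show prj b = b + b * b from rfl]; noncomm_ring
    rw [this, two, add_zero, add_assoc, two, add_zero]
  rw [mul_assoc, k4, mul_add, ← mul_assoc _ e, k1, zero_mul, add_zero, prj_sq two ha, prj_sq two ha]

theorem prj_three (two : ∀ x : E, x + x = 0) (ha : a * a * a = 1) (hc : c * c * c = 1)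
    (h1 : prj a * prj b * prj a = prj a) (h2 : prj c * prj a * prj c = prj c) (h3 : prj c * prj b * prj c = prj c)
    (h4 : prj b * a * prj a = b * prj b * prj a) (h5 : prj c * a * prj a = c * prj c * prj a)
    (h6 : prj c * b * prj b = c * c * prj c * prj b) (h7 : prj c * (a * prj b * (a * a)) * prj c = prj c)
    (h8 : prj c * (a * a * prj b * a) * prj c = prj c) : prj c = 0 := by
  have e1 : a = 1 + a * a * prj a := by
    calc a = 1 + 1 + 1 * a := by rw [two, zero_add, one_mul]
      _ = _ := by rw [prj, mul_add, ← mul_assoc, ha, add_assoc]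
  have e2 : a * a = 1 + a * prj a := by
    calc a * a = a * a + (1 + 1) := by rw [two, add_zero]
      _ = _ := by rw [prj, mul_add, ← mul_assoc, ha]; abel
  have cm : ∀ a x : E, prj a * (a * x) = a * (prj a * x) := fun a x => by rw [← mul_assoc, ← prj_comm, mul_assoc]
  have ca := cm a
  have cb := cm b
  have sc := prj_sq two hc
  have pc : prj c = c + c * c := rfl
  generalize prj a = P at *
  generalize prj b = Q at *
  generalize prj c = R at *
  have a3 : ∀ x, a * (a * (a * x)) = x := fun x => by rw [← mul_assoc, ← mul_assoc, ha, one_mul]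
  have c3 : ∀ x, c * (c * (c * x)) = x := fun x => by rw [← mul_assoc, ← mul_assoc, hc, one_mul]
  have r1 : ∀ x, P * (Q * (P * x)) = P * x := fun x => by rw [← mul_assoc, ← mul_assoc, h1]
  have r4 : ∀ x, Q * (a * (P * x)) = b * (Q * (P * x)) := fun x => by simp only [← mul_assoc, h4]
  have r5 : ∀ x, R * (a * (P * x)) = c * (R * (P * x)) := fun x => by simp only [← mul_assoc, h5]
  have r6 : ∀ x, R * (b * (Q * x)) = c * (c * (R * (Q * x))) := fun x => by simp only [← mul_assoc, h6]
  have g1 : ∀ x, R * (a * (a * (P * x))) = c * (c * (R * (P * x))) := fun x => by rw [← ca, r5, ca, r5]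
  have g2 : ∀ x, R * (Q * (a * (P * x))) = c * (c * (R * (Q * (P * x)))) := fun x => by rw [r4, r6]
  have g3 : ∀ x, R * (Q * (a * (a * (P * x)))) = c * (R * (Q * (P * x))) := fun x => by rw [← ca, g2, ca, g2, c3]
  have g4 : R * (a * (a * (P * (Q * (a * (P * R)))))) = R := by rw [← ca R, r1, ca, a3, ← mul_assoc, h2]
  have g5 : R * (a * (P * (Q * (a * (a * (P * R)))))) = R := by rw [← ca R, ← ca (a * R), r1, ca, ca, a3, ← mul_assoc, h2]
  have key : ∀ x y : E, R + x + y + R = R → x + y = R := fun x y q => by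
    rw [← q, ← zero_add (x + y), ← two R]; abel
  have f1 : c * c * (R * (P * Q + Q * P) * R) = R := by
    have : R * ((1 + a * a * P) * Q * (1 + a * P)) * R = R := by rw [← e1, ← e2, h7]
    rw [show R * ((1 + a * a * P) * Q * (1 + a * P)) * R = R * Q * R + R * (a * (a * (P * (Q * R)))) +
      R * (Q * (a * (P * R))) + R * (a * (a * (P * (Q * (a * (P * R)))))) by noncomm_ring, g4, h3, g1, g2] at this
    exact Eq.trans (by noncomm_ring) (key _ _ this)
  have f2 : c * (R * (P * Q + Q * P) * R) = R := by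
    have : R * ((1 + a * P) * Q * (1 + a * a * P)) * R = R := by rw [← e1, ← e2, h8]
    rw [show R * ((1 + a * P) * Q * (1 + a * a * P)) * R = R * Q * R + R * (a * (P * (Q * R))) +
      R * (Q * (a * (a * (P * R)))) + R * (a * (P * (Q * (a * (a * (P * R)))))) by noncomm_ring, g5, h3, r5, g3] at this
    exact Eq.trans (by noncomm_ring) (key _ _ this)
  have f3 : R * (R * (P * Q + Q * P) * R) = 0 := by
    nth_rw 1 [pc]
    rw [add_mul, f1, f2, two]
  rw [← mul_assoc, ← mul_assoc, sc] at f3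
  rw [← f2, f3, mul_zero]

end Ring

universe u

variable {G : Type*} [Group G] {p r k : ℕ} {D : Set (Subgroup G)}
  {A B C H K N R S : Subgroup G} {a b c g t u v w x y z : G}

theorem Pl.symm (e : Pl D a b) : Pl D b a :=
  have ⟨A, hA, B, hB, ha, hb, H, g, l1, l2, k⟩ := e
  ⟨B, hB, A, hA, hb, ha, H, g, l2, l1, by simpa using inv_mem k⟩

variable [hp : Fact p.Prime] [Finite G]

namespace W

variable (h : W p 2 k D)
include h

theorem pl_ne (e : Pl D a b) (n : b ≠ 1) : a ≠ 1 := fun q =>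
  have ⟨_, _, _, hB, _, hb, _, g, _, _, k⟩ := e
  n (h.eq_one hB g hb (by simpa [q] using k))

theorem sig_one (p3 : p = 3) {E : Type*} [Ring E] (two : ∀ x : E, x + x = 0) (σ : G →* E)
    (rel : ∀ a b, Pl D b a → ∃ e, σ a * e = e ∧ σ b * e = e ∧ σ a * prj (σ a) = σ b * prj (σ a) + e)
    (c1 : c ≠ 1) (h1 : Pl D a b) (h2 : Pl D a c) (h3 : Pl D b c⁻¹) : σ c = 1 := by
  have cube : ∀ {a b}, Pl D a b → a * a * a = 1 := fun ⟨A, hA, _, _, ha, _⟩ => by
    have := h.pow_one hA ha; rwa [p3, pow_three'] at this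
  have cube' : ∀ {a b}, Pl D a b → σ a * σ a * σ a = 1 := fun e => by rw [← map_mul, ← map_mul, cube e, map_one]
  have rl : ∀ {a b}, Pl D a b → prj (σ b) * σ a * prj (σ a) = σ b * prj (σ b) * prj (σ a) ∧
      prj (σ a) * prj (σ b) * prj (σ a) = prj (σ a) := fun e =>
    have ⟨_, k1, k2, k3⟩ := rel _ _ e.symm
    prj_rel two (cube' e) k1 k2 k3
  have sq : ∀ {a}, σ a * σ a * σ a = 1 → prj (σ (a * a)) = prj (σ a) := fun e => by
    rw [prj, prj, map_mul, ← mul_assoc, e, one_mul, add_comm]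
  have hc := cube' h2.symm
  have ci : c⁻¹ = c * c := (eq_inv_of_mul_eq_one_left (cube h2.symm)).symm
  have ai : a⁻¹ = a * a := (eq_inv_of_mul_eq_one_left (cube h1)).symm
  have b1 := h.pl_ne h3 (inv_ne_one.2 c1)
  have pj : ∀ g, prj (σ c) * (σ g * prj (σ b) * σ g⁻¹) * prj (σ c) = prj (σ c) := fun g => by
    obtain ⟨_, -, C, hC, -, hc', -⟩ := h2
    obtain ⟨B, hB, -, -, hb, -⟩ := h3
    have hB' := h.conj B hB g
    obtain ⟨y, hy, k⟩ := h.par hC hB' hc'
    have e : Pl D c y := ⟨C, hC, _, hB', hc', hy, _, h.good_line hC hB', le_sup_left, le_sup_right, k⟩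
    have hb' : g * b * g⁻¹ ∈ g ⋆ B := conj_mem_conj.2 hb
    have e1 : σ g * prj (σ b) * σ g⁻¹ = prj (σ (g * b * g⁻¹)) := by
      rw [prj, prj, ← map_mul σ (g * b * g⁻¹), conj_mul]
      simp only [map_mul, mul_add, add_mul]
    rw [e1]
    rcases h.mem_three p3 hB' hy (h.pl_ne e.symm c1) hb' with q | q | q
    · exact (b1 (by simpa using q)).elim
    · exact q ▸ (rl e).2
    · rw [q, sq (cube' e.symm)]; exact (rl e).2
  have k6 := (rl h3).1
  have k3 := (rl h3.symm).2
  rw [ci, sq hc] at k3 k6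
  have k7 := pj a
  have k8 := pj a⁻¹
  rw [inv_inv] at k8
  rw [ai, map_mul] at k7 k8
  have := prj_three two (cube' h1) hc (rl h1).2 (rl h2.symm).2 k3 (rl h1).1 (rl h2).1 (by rwa [map_mul] at k6) k7 k8
  rw [prj, ← two (σ c), add_left_cancel_iff] at this
  rw [← hc, this, this]

/-- an elementary abelian normal `2`-subgroup is centralized by the points -/
theorem cent_two (m : M2 2 D) [N.Normal] (hN : IsElementaryAbelian 2 N) (hf : ∀ A ∈ D, ¬ A ≤ N) (p3 : p = 3)
    (tr : ∃ a b c, c ≠ 1 ∧ Pl (Subgroup.map (QuotientGroup.mk' N) '' D) a b ∧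
      Pl (Subgroup.map (QuotientGroup.mk' N) '' D) a c ∧ Pl (Subgroup.map (QuotientGroup.mk' N) '' D) b c⁻¹) :
    ∀ A ∈ D, A ≤ 𝐂(N) := by
  have ab := abelian_cent hN.1
  have pN := Core.isPGroup_of_isElementaryAbelian hN
  letI : CommGroup N := { (inferInstance : Group N) with mul_comm := hN.1.is_comm.comm }
  letI : MulDistribMulAction G N := .compHom N (MulAut.conjNormal (H := N))
  let ρ : G →* Module.End ℤ (Additive N) := Representation.ofMulDistribMulAction G N
  have hρ : ∀ g v, ((ρ g v).toMul : G) = g * v.toMul * g⁻¹ := fun _ _ => rfl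
  have ext : ∀ {φ ψ : Module.End ℤ (Additive N)}, (∀ v, ((φ v).toMul : G) = (ψ v).toMul) → φ = ψ := fun e =>
    LinearMap.ext fun v => Additive.toMul.injective (Subtype.ext (e v))
  have ker : N ≤ MonoidHom.ker ρ := fun n hn => ext fun v => by
    rw [hρ, ← ab hn _ v.toMul.2, mul_inv_cancel_right]; rfl
  have w := h.map (QuotientGroup.mk'_surjective N) (by rwa [QuotientGroup.ker_mk'])
  obtain ⟨a, b, c, c1, h1, h2, h3⟩ := tr
  have key := w.sig_one p3 (fun x => ext fun v => by
    have := hN.2 _ (x v).toMul.2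
    rwa [_root_.sq] at this) (QuotientGroup.lift N ρ ker) ?_ c1 h1 h2 h3
  · obtain ⟨_, -, _, ⟨C, hC, rfl⟩, -, ⟨c, hc, rfl⟩, -⟩ := h2
    intro A hA
    obtain ⟨x, -, rfl⟩ := h.conj_line hC hA
    refine conj_le_of_norm (h.le_of_mem hC hc (fun q => c1 (q ▸ map_one _)) fun n hn => ?_)
      (norm_cent le_normalizer_of_normal (mem_top x))
    have := hρ c (Additive.ofMul ⟨n, hn⟩)
    rw [show ρ c = 1 from key] at this
    exact eq_mul_inv_iff_mul_eq.1 this
  rintro _ _ ⟨_, ⟨B, hB, rfl⟩, _, ⟨A, hA, rfl⟩, ⟨b, hb, rfl⟩, ⟨a, ha, rfl⟩, H, g, l1, l2, k⟩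
  have g' : IsPGroup 2 (rd D (H.comap (QuotientGroup.mk' N))) := h.sol (sol_of_le (Core.isSolvable_comap _
    (w.sol_of_good g) (by rw [QuotientGroup.ker_mk']; exact pgroup_sol pN)) (by rw [cl_map]; exact le_comap_map _ _))
  rw [rd_map] at k
  obtain ⟨t, ht, k⟩ := k
  replace l1 := map_le_iff_le_comap.1 l1
  replace l2 := map_le_iff_le_comap.1 l2
  have l3 : N ≤ H.comap (QuotientGroup.mk' N) := (QuotientGroup.ker_mk' N).ge.trans (ker_le_comap _ _)
  generalize H.comap (QuotientGroup.mk' N) = H at *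
  have k1 : ρ a = ρ b * ρ t := by
    have := congrArg (QuotientGroup.lift N ρ ker) (show QuotientGroup.mk' N a = QuotientGroup.mk' N (b * t) by
      rw [map_mul, k, mul_inv_cancel_left])
    rw [← map_mul]
    exact this
  have k2 : ∀ v, ((prj (ρ a) v).toMul : G) ∈ rd D H := fun v => by
    have hv := Normal.conj_mem inferInstance _ v.toMul.2 a
    have := rd_mono (cl_le.trans (sup_le l3 l2)) ((h.rd_sup hA pN le_normalizer_of_normal).ge (comm_mem_comm hv ha))
    have i := hN.2 _ hv
    rw [_root_.sq] at i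
    rw [mul_assoc, mul_assoc, ← mul_assoc a, ← eq_inv_of_mul_eq_one_left i] at this
    exact this
  have k3 : ∀ C ∈ D, C ≤ H → ∀ c ∈ C, ρ c * ((ρ t - 1) * prj (ρ a)) = (ρ t - 1) * prj (ρ a) := fun C hC l c hc =>
    ext fun v => by
      have e : ((((ρ t - 1) * prj (ρ a)) v).toMul : G) = t * (prj (ρ a) v).toMul * t⁻¹ * ((prj (ρ a) v).toMul : G)⁻¹ := by
        rw [← hρ, ← div_eq_mul_inv]; rfl
      rw [Module.End.mul_apply, hρ, e, h.zd_cent m g' (comm_zd ht (k2 v)) c (le_cl hC l hc), mul_inv_cancel_right]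
  refine ⟨_, k3 A hA l2 a ha, k3 B hB l1 b hb, ?_⟩
  change ρ a * prj (ρ a) = ρ b * prj (ρ a) + _
  rw [← k3 B hB l1 b hb]
  nth_rw 1 [k1]
  noncomm_ring

end W

theorem e_thm (n : ℕ) : ∀ (G : Type u) [Group G] [Finite G] (D : Set (Subgroup G)), Nat.card G = n → W p 2 k D →
    M2 2 D → IsPGroup 2 (rd D ⊤) ∨ U4 p k D ⊤ := by
  induction n using Nat.strong_induction_on with
  | _ n ih =>
  intro G _ _ D hn h m
  refine or_iff_not_imp_left.2 fun ng => ?_
  obtain ⟨A, hA, -⟩ := ex_out (H := ⊥) ng (IsPGroup.of_bot.to_le rd_le)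
  by_cases q : ∃ N : Subgroup G, N.Normal ∧ N ≠ ⊥ ∧ Group.IsSolvable N
  · obtain ⟨N, n1, n2, n3⟩ := q
    obtain ⟨N, hN, l⟩ := Core.exists_isMinNormal_le n1 n2
    replace n3 := sol_of_le n3 l
    obtain ⟨q, hq, el⟩ := hN.isElementaryAbelian n3
    have := hN.normal
    have hf : ∀ A ∈ D, ¬ A ≤ N := fun A hA l => ng (h.sol (sol_of_le n3 (cl_le_iff.2 fun B hB _ => by
      obtain ⟨x, -, rfl⟩ := h.conj_line hA hB
      exact conj_le_of_norm l (le_normalizer_of_normal (mem_top x)))))
    have hs := QuotientGroup.mk'_surjective N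
    have hk := QuotientGroup.ker_mk' N
    have w := h.map hs (by rwa [hk])
    have m' := h.m2_map m hs (by rwa [hk])
    have ng' : ¬ IsPGroup 2 (rd (Subgroup.map (QuotientGroup.mk' N) '' D) ⊤) := fun g => ng (h.sol (sol_of_le
      (Core.isSolvable_comap _ (w.sol_of_good g) (by rwa [hk])) (by rw [cl_map]; exact le_comap_map _ _)))
    have u := (ih _ (hn ▸ Core.card_quotient_lt hN.ne_bot) _ _ rfl w m').resolve_left ng'
    refine h.u4_lift m hs (by rwa [hk]) ?_ u
    rw [hk]
    by_cases q2 : q = 2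
    · subst q2
      exact h.cent_two m el hf u.1 (Co.triple ⟨w.mk_cx m' fun _ _ _ => .inr (u.mono le_top),
        fun A hA B hB n => (u.2.2 A hA B hB le_top le_top n).1, ng'⟩ ⟨A, hA, rfl⟩)
    have := Fact.mk hq
    refine fun A hA => cent_of_norm_of_disjoint le_normalizer_of_normal (fun x hx => norm_of_conj_eq ?_)
      (inf_eq_bot_of_prime (h.prime hA) (hf A hA))
    obtain ⟨y, hy, e⟩ := h.exists_conj (H := N ⊔ A) hA (h.conj A hA x) le_sup_right
      (conj_le_of_mem le_sup_right (mem_sup_left hx))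
    rw [← e, mem_bot.1 ((disjoint_of_coprime (coprime_pgroups (Core.isPGroup_of_isElementaryAbelian el)
      (h.good_of_sol (sol_sup' n3 (pgroup_sol (h.pg hA)) le_normalizer_of_normal)) q2)).le (mem_inf.2
        ⟨(der_mono cl_le).trans (der_sup_le' le_normalizer_of_normal (h.ab hA)) hy, hy⟩)), conj_one]
  have nn : ∀ N : Subgroup G, ⊤ ≤ 𝐍(N) → Group.IsSolvable N → N = ⊥ := fun N k s => by_contra fun c =>
    q ⟨N, normalizer_eq_top_iff.1 (top_le_iff.1 k), c, s⟩
  have cx : Cx p 2 k D := h.mk_cx m fun B hB b => by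
    have inj := 𝐍(B).subtype_injective
    refine (ih _ (hn ▸ Core.card_lt_of_ne_top fun e => b (nn B e.ge (pgroup_sol hB))) 𝐍(B) _ rfl (h.comap inj)
      (m.comap inj)).imp (fun g => ?_) fun u => range_subtype 𝐍(B) ▸ u.of_comap inj
    have := g.map 𝐍(B).subtype
    rwa [rd_comap inj, ← MonoidHom.range_eq_map, range_subtype] at this
  obtain ⟨B, hB, n⟩ := ex_out ng (h.good_line hA hA)
  exact Co.u4 ⟨cx, cx.heavy ng fun N k a => nn N k (abelian_sol (abelian_iff.2 a)), ng⟩ hA hB
    fun e => n (e ▸ le_sup_left)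

end Cfsg.Lib.FSet
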