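import Cfsg.Agent.Lib.FSet.W

/-! F-sets: the modes `M1`, `M2` and the local hypothesis `Cx` (`docs/FSET.md`). -/

set_option autoImplicit false

namespace Cfsg.Lib.FSet

open Subgroup Cfsg.Lib.BG Cfsg.Lib.Transfer
open scoped Cfsg.Lib.Transfer

variable {G : Type*} [Group G]

/-- `R` is an `r`-group with `R = [R, A]` -/
def Full (r : ℕ) (A R : Subgroup G) : Prop := IsPGroup r R ∧ A ≤ 𝐍(R) ∧ ⁅R, A⁆ = R

/-- points act without fixed points -/
def M1 (r : ℕ) (D : Set (Subgroup G)) : Prop := ∀ A ∈ D, ∀ R, Full r A R → R ⊓ 𝐂(A) = ⊥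

/-- class at most two with derived subgroup centralized by the points -/
def M2 (r : ℕ) (D : Set (Subgroup G)) : Prop := ∀ A ∈ D, ∀ R, Full r A R → ⁅R, R⁆ ≤ 𝐂(R) ⊓ 𝐂(A)

/-- the second derived subgroup of the group generated by the points in `H` -/
def zd (D : Set (Subgroup G)) (H : Subgroup G) : Subgroup G := ⁅rd D H, rd D H⁆

/-- the local hypothesis of the crux lemma -/
structure Cx (p r k : ℕ) (D : Set (Subgroup G)) : Prop extends W p r k D where
  m2 : M2 r D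
  lg : ∀ B : Subgroup G, IsPGroup r B → B ≠ ⊥ → IsPGroup r (rd D 𝐍(B)) ∨ cl D 𝐍(B) ≤ 𝐂(B)
  fg : ∀ H : Subgroup G, IsPGroup r (rd D H) → ∀ z ∈ zd D H, z ≠ 1 → IsPGroup r (rd D 𝐂[z])

end Cfsg.Lib.FSet
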