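import Cfsg.Agent.Lib.FSet.Crux
import Cfsg.Agent.Lib.ZStar.Main
import Cfsg.Agent.Lib.Inv.Misc
import Cfsg.Agent.S0205
import Cfsg.Agent.S0217

/-! F-sets with odd `r`: the minimal counterexample, part 1 (involutions and the signalizer functor). -/

set_option autoImplicit false
set_option linter.unusedSectionVars false

namespace Cfsg.Lib.FSet

open Subgroup Cfsg.Lib.BG Cfsg.Lib.Transfer
open scoped Cfsg.Lib.Transfer

variable {G : Type*} [Group G] {p r k : ℕ} {D : Set (Subgroup G)} {A B E H K L M N R T U V : Subgroup G} {a g t x : G}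
  [hp : Fact p.Prime] [hr : Fact r.Prime] [Finite G]

theorem sol_of_odd (h : PiGrp {2}ᶜ H) : Group.IsSolvable H :=
  Agent.S0205.result (Nat.not_even_iff_odd.1 fun e => PiGrp.p'_iff.1 h e.two_dvd)

namespace W

variable (h : W p r k D)
include h

theorem cent_mode (m : M1 r D ∨ M2 r D) (hA : A ∈ D) (f : Full r A R) : R ⊓ 𝐂(A) ≤ 𝐂(R) :=
  m.elim (fun m => (m A hA R f).le.trans bot_le) fun m => (h.cent_le_der hA f).trans ((m A hA R f).trans inf_le_left)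

theorem sd (hA : A ∈ D) (e : A ≤ H) (g : IsPGroup r (rd D H)) : SD (rd D H) A (cl D H) :=
  h.cl_eq hA e ▸ .of_coprime (h.full hA e g).2.1 (h.cop hA g).symm

theorem odd (r2 : r ≠ 2) (hA : A ∈ D) (e : A ≤ H) (g : IsPGroup r (rd D H)) : PiGrp {2}ᶜ (cl D H) :=
  h.cl_eq hA e ▸ (p'_of_pgroup g r2).sup (p'_of_pgroup (h.pg hA) h.p2) (h.full hA e g).2.1

/-- a `2`-group normalizing a good subspace fixes one of its points -/
theorem inv_pt (r2 : r ≠ 2) (hA : A ∈ D) (e : A ≤ H) (g : IsPGroup r (rd D H)) (hT : IsPGroup 2 T)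
    (n : T ≤ 𝐍(cl D H)) : ∃ B ∈ D, B ≤ H ∧ T ≤ 𝐍(B) := by
  obtain ⟨P, h1, h2⟩ := Syl.exists_inv p n ((h.odd r2 hA e g).coprime_pgroup hT).symm (.inl (pgroup_sol hT))
  obtain ⟨x, hx, rfl⟩ := (h.syl_of hA hA g (h.sd hA e g) (le_cl hA e)).exists_conj_eq h1
  exact ⟨_, h.conj A hA x, h1.le.trans cl_le, h2⟩

theorem two_pt (r2 : r ≠ 2) (hA : A ∈ D) (hT : IsPGroup 2 T) : ∃ B ∈ D, T ≤ 𝐍(B) := by
  obtain ⟨B, hB, m⟩ := Set.exists_max_image D (fun B => Nat.card ↥(T ⊓ 𝐍(B))) (Set.toFinite _) ⟨A, hA⟩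
  refine ⟨B, hB, by_contra fun c => ?_⟩
  obtain ⟨x, h1, h2, h3, h4⟩ := PGroup.exists_mem_normalizer_of_lt hT (inf_lt_left.2 c)
  have l : T ⊓ 𝐍(B) ⊔ zpowers x ≤ T := sup_le inf_le_left (zpowers_le.2 h1)
  obtain ⟨C, hC, -, e⟩ := h.inv_pt r2 hB le_sup_left (h.good_line hB (h.conj B hB x)) (hT.to_le l) (by
    rw [cl_line hB (h.conj B hB x)]
    refine sup_le (norm_sup inf_le_right ?_) (zpowers_le.2 (norm_of_conj_eq ?_))
    · rw [← conj_normalizer, ← conj_eq_of_norm h4]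
      exact conj_mono x inf_le_right
    · rw [conj_sup, conj_conj, ← sq, conj_eq_of_norm h3.2, sup_comm])
  exact h2 ((eq_of_le_of_card_le (le_sup_left.trans (le_inf l e)) (m C hC)).ge (le_inf l e (mem_sup_right (mem_zpowers x))))

/-- `2`-subgroups normalizing a point centralize it -/
theorem two_cent (r2 : r ≠ 2) (ht : cl D ⊤ = ⊤) (hA : A ∈ D) (hT : IsPGroup 2 T) (n : T ≤ 𝐍(A)) : T ≤ 𝐂(A) := by
  obtain ⟨S, hS⟩ := Syl.exists 2 (⊤ : Subgroup G)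
  obtain ⟨B, hB, e⟩ := h.two_pt r2 hA hS.pgroup
  obtain ⟨y, -, rfl⟩ := h.conj_line hB hA
  have o : ¬ 2 ∣ 𝐍(y ⋆ B).index := fun d => Syl.not_dvd' (hS.conj_top y) (d.trans (by
    rw [relIndex_top_right, ← conj_normalizer]
    exact index_dvd_of_le (conj_mono y e)))
  intro x hx
  obtain ⟨j, hj⟩ := hT ⟨x, hx⟩
  obtain ⟨m, hm⟩ := exists_pow_eq_self_of_coprime (x := x) (((Nat.prime_two.coprime_iff_not_dvd.2 o).symm.pow_right
    j).of_dvd_right (orderOf_dvd_of_pow_eq_one (congrArg Subtype.val hj)))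
  exact hm ▸ pow_mem (h.pow_index ht hA (n hx)) m

/-- generation by centralizers of involutions -/
theorem gen (r2 : r ≠ 2) (ht : cl D ⊤ = ⊤) (m : M1 r D ∨ M2 r D) (hV : Elem 2 2 V K) (g : IsPGroup r (rd D H))
    (n : V ≤ 𝐍(cl D H)) (e : ∀ v ∈ V, v ≠ 1 → cl D 𝐂[v] ≤ L) : cl D H ≤ L := cl_le_iff.2 fun A hA l => by
  obtain ⟨B, hB, h1, h2⟩ := h.inv_pt r2 hA l g hV.pgroup n
  have c := h.two_cent r2 ht hB hV.pgroup h2
  have f := h.full hB h1 g
  obtain ⟨v, hv, v1⟩ := exists_ne_one (hV.ne_bot two_ne_zero)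
  have hBL : B ≤ L := (le_cl hB (le_cent1_iff.2 (c hv))).trans (e v hv v1)
  have n1 : rd D H ⊓ 𝐂(B) ≤ 𝐍(rd D H ⊓ L) := norm_of_cent ((h.cent_mode m hB f).trans (cent_anti inf_le_left))
  have k1 : rd D H ≤ rd D H ⊓ L ⊔ rd D H ⊓ 𝐂(B) := coprime_abelian_gen_cent1 hV.abelian (hV.not_cyclic le_rfl)
    (rd_cl (D := D) (H := H) ▸ h.norm_rd n) (coprime_pgroups hV.pgroup g r2.symm) fun v hv v1 => by
      have b : B ≤ 𝐂[v] := le_cent1_iff.2 (c hv)
      have n2 := norm_inf f.2.1 (le_norm_of_le b)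
      rw [← coprime_cent_prod n2 (h.cop hB (g.to_le inf_le_left)) (.inl (pgroup_sol (h.pg hB)))]
      refine sup_le_sup (le_inf ((comm_le_left n2).trans inf_le_left) ?_) (inf_le_inf_right _ inf_le_left)
      rw [← h.rd_sup hB (g.to_le inf_le_left) n2]
      exact rd_le_cl.trans ((cl_mono (sup_le inf_le_right b)).trans (e v hv v1))
  obtain ⟨x, hx, rfl⟩ := h.exists_conj hB hA h1 l
  obtain ⟨y, hy, z, hz, rfl⟩ := (mem_sup_left_norm n1).1 (k1 hx)
  rw [← conj_conj, conj_eq_of_cent hz.2]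
  exact conj_le_of_mem hBL hy.2

end W

/-- the minimal counterexample -/
structure Mn (p r k : ℕ) (D : Set (Subgroup G)) : Prop extends W p r k D where
  r2 : r ≠ 2
  mode : M1 r D ∨ M2 r D
  top : cl D ⊤ = ⊤
  ns : ∀ N : Subgroup G, N.Normal → Group.IsSolvable N → N = ⊥
  good : ∀ H : Subgroup G, H ≠ ⊤ → IsPGroup r (rd D H)
  pt : D.Nonempty

/-- the closure of the subspaces fixed by involutions of `V` -/
def Lv (D : Set (Subgroup G)) (V : Subgroup G) : Subgroup G := ⨆ v ∈ V, ⨆ _ : v ≠ 1, cl D 𝐂[v]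

omit [Finite G] in
theorem le_Lv (hv : x ∈ V) (v1 : x ≠ 1) : cl D 𝐂[x] ≤ Lv D V :=
  le_iSup₂_of_le (f := fun v (_ : v ∈ V) => ⨆ _ : v ≠ 1, cl D 𝐂[v]) x hv (le_iSup (fun _ : x ≠ 1 => cl D 𝐂[x]) v1)

omit [Finite G] in
theorem Lv_le (e : ∀ v ∈ V, v ≠ 1 → cl D 𝐂[v] ≤ L) : Lv D V ≤ L := iSup₂_le fun v hv => iSup_le (e v hv)

namespace Mn

variable (h : Mn p r k D)
include h

theorem ns' (n : ⊤ ≤ 𝐍(N)) (s : Group.IsSolvable N) : N = ⊥ := h.ns N (normalizer_eq_top_iff.1 (top_le_iff.1 n)) s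

theorem norm_ne (s : Group.IsSolvable N) (n : N ≠ ⊥) : 𝐍(N) ≠ ⊤ := fun e => n (h.ns' e.ge s)

theorem cent_ne (n : x ≠ 1) : 𝐂[x] ≠ ⊤ := fun e => h.norm_ne (abelian_sol (abelian_of_cyclic inferInstance))
  (ne_bot_of_mem (mem_zpowers x) n) (top_le_iff.1 (norm_of_cent (cent_zpowers x ▸ e.ge)))

theorem not_sol : ¬ Group.IsSolvable (⊤ : Subgroup G) := fun s =>
  have ⟨_, hA⟩ := h.pt
  h.ne_bot hA (eq_bot_mono (h.ns _ inferInstance s) le_top)

theorem ne_top (s : Group.IsSolvable H) : H ≠ ⊤ := fun e => h.not_sol (e ▸ s)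

theorem gd (n : x ≠ 1) : IsPGroup r (rd D 𝐂[x]) := h.good _ (h.cent_ne n)

theorem pt_cent (hT : IsPGroup 2 T) : ∃ A ∈ D, T ≤ 𝐂(A) :=
  have ⟨_, hA⟩ := h.pt
  have ⟨B, hB, e⟩ := h.two_pt h.r2 hA hT
  ⟨B, hB, h.two_cent h.r2 h.top hB hT e⟩

theorem eq_top (n : ⊤ ≤ 𝐍(N)) (hA : A ∈ D) (e : A ≤ N) : N = ⊤ := top_le_iff.1 (h.top.ge.trans
  (cl_le_iff.2 fun B hB _ => have ⟨x, _, k⟩ := h.conj_line hA hB; k ▸ conj_le_of_norm e (n (mem_top x))))

theorem cx (m : M2 r D) : Cx p r k D :=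
  ⟨h.toW, m, fun _ hB n => .inl (h.good _ (h.norm_ne (pgroup_sol hB) n)), fun _ _ _ _ n => h.gd n⟩

/-- every involution fixes at least two points -/
theorem rd_ne (ht : orderOf t = 2) : rd D 𝐂[t] ≠ ⊥ := fun e => by
  have t1 : t ≠ 1 := fun k => by simp [k] at ht
  have hT := Elem.zpowers (mem_top t) ht
  obtain ⟨g, c, n⟩ : ∃ g, Commute t (g * t * g⁻¹) ∧ g * t * g⁻¹ ≠ t := by
    by_contra! c
    refine h.cent_ne t1 (top_le_iff.1 fun g _ => mem_cent1.2 ?_)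
    have := ZStar.zstar ⟨ht, c⟩ g
    rw [h.ns (oddCore G) inferInstance (Agent.S0205.result (Core.odd_card_oddCore G)), mem_bot, mul_inv_eq_one,
      mul_inv_eq_iff_eq_mul] at this
    exact this.symm
  set s := g * t * g⁻¹ with hs
  have s2 : s ^ 2 = 1 := by rw [hs, conj_pow, ← ht, pow_orderOf_eq_one]; simp
  have s1 : s ≠ 1 := fun k => t1 (by simpa [hs] using k)
  have ns : s ∉ zpowers t := fun k => by
    obtain ⟨i, e⟩ := (mem_powers_iff_mem_zpowers (G := G)).2 k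
    replace e : t ^ (i % 2) = s := by rw [← ht, pow_mod_orderOf]; exact e
    rcases Nat.mod_two_eq_zero_or_one i with q | q <;> rw [q] at e
    exacts [s1 (by simpa using e.symm), n (by simpa using e.symm)]
  have hV := hT.sup_zpowers (mem_top s) (by rw [cent_zpowers]; exact mem_cent1.2 c.eq.symm) s2 ns
  obtain ⟨A, hA, a⟩ := h.pt_cent hV.pgroup
  have mt : t ∈ zpowers t ⊔ zpowers s := mem_sup_left (mem_zpowers t)
  have ms : s ∈ zpowers t ⊔ zpowers s := mem_sup_right (mem_zpowers s)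
  have e1 : ∀ u ∈ zpowers t ⊔ zpowers s, rd D 𝐂[u] = ⊥ → cl D 𝐂[u] = A := fun u hu k => by
    rw [h.cl_eq hA (le_cent1_iff.2 (a hu)), k, bot_sup_eq]
  have es : rd D 𝐂[s] = ⊥ := by rw [hs, ← conj_cent1, ← h.conj_rd, e, Subgroup.map_bot]
  have key : ∀ u ∈ zpowers t ⊔ zpowers s, u ≠ 1 → rd D 𝐂[u] = ⊥ → ∀ B ∈ D, u ∈ 𝐍(A ⊔ B) := fun u hu u1 k B hB => by
    have pu := hV.pgroup.to_le (zpowers_le.2 hu)
    have hB' := h.conj B hB u
    obtain ⟨C, hC, c1, c2⟩ := h.inv_pt h.r2 hB le_sup_left (h.good_line hB hB') pu (by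
      rw [cl_line hB hB', zpowers_le]
      exact norm_of_conj_eq (by rw [conj_sup, conj_conj, ← sq, hV.pow_eq_one hu, conj_one, sup_comm]))
    obtain rfl := h.eq_of_le hC hA ((le_cl hC (le_cent1_iff.2
      (h.two_cent h.r2 h.top hC pu c2 (mem_zpowers u)))).trans (e1 u hu k).le)
    refine mem_normalizer_of_conj_le ?_
    rw [conj_sup, conj_eq_of_cent (a hu)]
    refine sup_le le_sup_left ?_
    by_cases q : C = B
    · rw [← q, conj_eq_of_cent (a hu)]; exact le_sup_left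
    by_cases q' : B = u ⋆ B
    · rw [← q']; exact le_sup_right
    · exact le_sup_right.trans (h.line_eq' hB hB' hC hB q' q c1 le_sup_left).ge
  have st : t * s ≠ 1 := fun k => ns (by rw [eq_inv_of_mul_eq_one_right k]; exact inv_mem (mem_zpowers t))
  refine h.cent_ne st (top_le_iff.1 (h.top.ge.trans (cl_le_iff.2 fun B hB _ => (le_cl hB le_sup_right).trans
    (h.gen h.r2 h.top h.mode hV (h.good_line hA hB) ?_ fun v hv v1 => ?_))))
  · rw [cl_line hA hB]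
    exact sup_le (zpowers_le.2 (key t mt t1 e B hB)) (zpowers_le.2 (key s ms s1 es B hB))
  · have hA' : A ≤ 𝐂[t * s] := le_cent1_iff.2 (a (mul_mem mt ms))
    by_cases q : v = t * s
    · exact q ▸ cl_le
    refine (e1 v hv ?_).le.trans hA'
    have : IsKleinFour ↥(zpowers t ⊔ zpowers s) := Inv.k4_of_elemAb hV.elem hV.card
    by_cases q1 : v = t
    · exact q1 ▸ e
    by_cases q2 : v = s
    · exact q2 ▸ es
    exact (q (congrArg Subtype.val (IsKleinFour.eq_mul_of_ne_all (x := (⟨t, mt⟩ : ↥(zpowers t ⊔ zpowers s)))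
      (y := ⟨s, ms⟩) (z := ⟨v, hv⟩) (by simpa using t1) (by simpa using s1) (by simpa using n.symm)
      (by simpa using v1) (by simpa using q1) (by simpa using q2)))).elim

theorem Lv_le' (hV : Elem 2 2 V K) (c : V ≤ 𝐂(U)) : Lv D U ≤ Lv D V := Lv_le fun _ hu u1 =>
  h.gen h.r2 h.top h.mode hV (h.gd u1) (h.norm_cl (norm_cent1 (c.trans (cent_le_cent1 hu)))) fun _ => le_Lv

/-- the signalizer step -/
theorem Lv_ne (hE : Elem 2 3 E K) : Lv D E ≠ ⊤ := by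
  obtain ⟨A, hA, a⟩ := h.pt_cent hE.pgroup
  have b : ∀ u ∈ E, A ≤ 𝐂[u] := fun u hu => le_cent1_iff.2 (a hu)
  have f := fun u hu (u1 : u ≠ 1) => h.full hA (b u hu) (h.gd u1)
  by_cases c : ∀ u ∈ E, u ≠ 1 → rd D 𝐂[u] ⊓ 𝐂(A) = ⊥
  · have o := (Agent.S0217.result (p := 2) E (le_cent_iff.1 hE.cent) hE.elem.2 hE.card.ge (fun u => rd D 𝐂[u])
      (fun _ _ _ => rd_le) (fun u _ u1 => PiGrp.p'_iff.1 (p'_of_pgroup (h.gd u1) h.r2))
      (fun u hu _ v hv x => conj_mem_of_norm (h.norm_rd (norm_cent1 (hE.cent.trans (cent_le_cent1 hu))) hv))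
      (fun u _ u1 => pgroup_sol (h.gd u1)) fun u hu u1 v hv _ => by
        have n := norm_inf (f u hu u1).2.1 (le_norm_of_le (b v hv))
        have g := (h.gd u1).to_le (inf_le_left (b := 𝐂[v]))
        rw [← coprime_comm_eq_of_cent_bot n (h.cop hA g) (.inr (pgroup_sol g))
          (eq_bot_mono (c u hu u1) (inf_le_inf_right _ inf_le_left)), ← h.rd_sup hA g n]
        exact rd_mono (cl_le.trans (sup_le inf_le_right (b v hv)))).1
    refine ne_top_of_le_ne_top (h.ne_top (sol_sup' (sol_of_odd (PiGrp.p'_iff.2 o)) (pgroup_sol (h.pg hA))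
      fun x hx => mem_normalizer_of_conj_le (conj_le_iff_le_inv_conj.2 (iSup_le fun u => conj_le_iff_le_inv_conj.1
        ((conj_eq_of_norm ((f _ u.2.1 u.2.2).2.1 hx)).le.trans (le_iSup (fun u : {a // a ∈ E ∧ a ≠ 1} => rd D 𝐂[(u : G)]) u))))))
      (Lv_le fun u hu u1 => (h.cl_eq hA (b u hu)).le.trans (sup_le_sup_right
        (le_iSup (fun u : {a // a ∈ E ∧ a ≠ 1} => rd D 𝐂[(u : G)]) ⟨u, hu, u1⟩) A))
  push Not at c
  obtain ⟨u, hu, u1, c⟩ := c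
  have m := h.mode.resolve_left fun m => c (m A hA _ (f u hu u1))
  rw [← h.zd_eq m hA (b u hu) (h.gd u1)] at c
  have hU := hE.zpowers_of_mem hu u1
  obtain ⟨V, hV, d⟩ := hE.exists_compl hU
  have g := (h.gd u1).to_le (zd_le_rd (H := 𝐂[u]))
  obtain ⟨v, hv, v1, c⟩ := coprime_abelian_exists_cent1 hV.abelian (hV.not_cyclic le_rfl)
    (h.norm_zd (norm_cent1 (hV.le.trans (hE.cent.trans (cent_le_cent1 hu))))) (coprime_pgroups hV.pgroup g h.r2.symm) c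
  obtain ⟨z, hz, z1⟩ := exists_ne_one c
  have hW := hU.sup_zpowers (hV.le hv) (cent_anti hU.le (hE.cent (hV.le hv))) (hE.pow_eq_one (hV.le hv))
    fun k => v1 (d.sd.inf.le (mem_inf.2 ⟨k, hv⟩))
  obtain ⟨e, l⟩ := (h.cx m).hv (h.gd u1) hz.1 z1
  have cz : zpowers u ⊔ zpowers v ≤ 𝐂[z] := sup_le (zpowers_le.2 (mem_cent1_symm ((zd_le_rd.trans rd_le) hz.1)))
    (zpowers_le.2 (mem_cent1_symm hz.2))
  refine ne_top_of_le_ne_top (h.cent_ne z1) ((h.Lv_le' hW (hW.le.trans hE.cent)).trans (Lv_le fun w hw w1 => ?_))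
  exact (h.cx m).crux e (h.gd w1) hA (b w (hW.le hw)) ((le_cl hA (b u hu)).trans l)
    (h.norm_cl (le_norm _) (mem_cent1_symm (cz hw)))

end Mn

end Cfsg.Lib.FSet
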