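import Cfsg.Agent.Lib.FSet.Crux

/-! F-sets, part IV: elementary facts on good subspaces in characteristic two. -/

set_option autoImplicit false
set_option linter.unusedSectionVars false

namespace Cfsg.Lib.FSet

open Subgroup Cfsg.Lib.BG Cfsg.Lib.Transfer
open scoped Cfsg.Lib.Transfer

variable {G : Type*} [Group G] {p r k : ℕ} {D : Set (Subgroup G)} {A B C H K N R S : Subgroup G}
  {a b c g t u v w x y z : G}

theorem mul_pow_coset (ha : a ∈ 𝐍(R)) (hx : x ∈ R) (j : ℕ) : (x * a) ^ j * (a ^ j)⁻¹ ∈ R := by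
  induction j with
  | zero => simp
  | succ j ih =>
    rw [show (x * a) ^ (j + 1) * (a ^ (j + 1))⁻¹ = (x * a) ^ j * (a ^ j)⁻¹ * (a ^ j * x * (a ^ j)⁻¹) by
      rw [pow_succ, pow_succ]; group]
    exact mul_mem ih (conj_mem_of_norm (pow_mem ha j) hx)

theorem comm_rd (hx : x ∈ cl D H) (hy : y ∈ cl D H) : x * y * x⁻¹ * y⁻¹ ∈ rd D H := comm_mem_comm hx hy
theorem comm_zd (hx : x ∈ rd D H) (hy : y ∈ rd D H) : x * y * x⁻¹ * y⁻¹ ∈ zd D H := comm_mem_comm hx hy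
theorem rd_norm_zd : rd D H ≤ 𝐍(zd D H) := norm_der (le_norm _)
theorem cl_norm_zd : cl D H ≤ 𝐍(zd D H) := norm_der cl_norm_rd

/-- good with central second derived subgroup -/
structure Gd (D : Set (Subgroup G)) (H : Subgroup G) : Prop where
  g : IsPGroup 2 (rd D H)
  c : zd D H ≤ 𝐂(cl D H)

theorem Gd.mono (g : Gd D H) (e : cl D K ≤ H) : Gd D K :=
  ⟨g.g.to_le (rd_mono e), (zd_mono e).trans (g.c.trans (cent_anti (cl_le_cl e)))⟩

theorem Gd.com (g : Gd D H) (hz : z ∈ zd D H) (hx : x ∈ cl D H) : x * z = z * x := g.c hz x hx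

variable [hp : Fact p.Prime] [hr : Fact r.Prime] [Finite G]

namespace W

section
variable (h : W p r k D)
include h

theorem ex_pt (hg : g ∈ cl D H) (n : g ∉ rd D H) : ∃ A ∈ D, A ≤ H := by
  by_contra c
  rw [show cl D H = ⊥ from eq_bot_iff.2 (cl_le_iff.2 fun A hA l => (c ⟨A, hA, l⟩).elim)] at hg
  exact n (mem_bot.1 hg ▸ one_mem _)

theorem pow_one (hA : A ∈ D) (ha : a ∈ A) : a ^ p = 1 :=
  orderOf_dvd_iff_pow_eq_one.1 (h.card A hA ▸ orderOf_dvd_natCard A ha)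

theorem eq_one (hA : A ∈ D) (hR : IsPGroup r R) (ha : a ∈ A) (e : a ∈ R) : a = 1 :=
  mem_bot.1 ((h.inf_bot hA hR).le (mem_inf.2 ⟨ha, e⟩))

theorem le_of_mem (hA : A ∈ D) (ha : a ∈ A) (a1 : a ≠ 1) (e : a ∈ S) : A ≤ S :=
  (zpowers_eq_of_prime (h.prime hA) ha a1).ge.trans (zpowers_le.2 e)

/-- the `p`-part of an element outside `R_H` generates a point -/
theorem pp (gd : IsPGroup r (rd D H)) (hg : g ∈ cl D H) (n : g ∉ rd D H) :
    ∃ v ∈ zpowers g, v ≠ 1 ∧ zpowers v ∈ D ∧ v⁻¹ * g ∈ rd D H := by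
  obtain ⟨A, hA, e⟩ := h.ex_pt hg n
  have nA := (le_cl hA e).trans (cl_norm_rd (D := D) (H := H))
  have sd : SD (rd D H) A (cl D H) := ⟨nA, inf_comm A _ ▸ h.inf_bot hA gd, (h.cl_eq hA e).symm⟩
  obtain ⟨x, hx, a, ha, e1⟩ := (mem_sup_left_norm nA).1 ((h.cl_eq hA e).le hg)
  have k1 : g ^ p ∈ rd D H := by simpa [e1, h.pow_one hA ha] using mul_pow_coset (nA ha) hx p
  obtain ⟨j, hj⟩ := gd ⟨_, k1⟩
  replace hj : (g ^ p) ^ r ^ j = 1 := congrArg Subtype.val hj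
  have cop : r.Coprime p := (Nat.coprime_primes hr.out hp.out).2 h.ne
  have k0 := ((Nat.ModEq.pow_totient cop).pow j).symm
  rw [one_pow, ← pow_mul] at k0
  have k0' := Nat.one_le_pow (p.totient * j) r hr.out.pos
  obtain ⟨c, hc⟩ := (Nat.modEq_iff_dvd' k0').1 k0
  have k2 : r ^ (p.totient * j) = p * c + 1 := by omega
  have k3 : (g ^ r ^ (p.totient * j))⁻¹ * g ∈ rd D H := by
    rw [k2, pow_succ', mul_inv_rev, inv_mul_cancel_right, pow_mul]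
    exact inv_mem (pow_mem k1 c)
  have v1 : g ^ r ^ (p.totient * j) ≠ 1 := fun q => n (by simpa [q] using k3)
  have k4 : (g ^ r ^ (p.totient * j)) ^ p = 1 := by
    obtain ⟨d, hd⟩ := Nat.exists_eq_add_of_le (Nat.le_mul_of_pos_left j (Nat.totient_pos.2 hp.out.pos))
    rw [← pow_mul, mul_comm, pow_mul, hd, pow_add, pow_mul, hj, one_pow]
  have k5 : Nat.card (zpowers (g ^ r ^ (p.totient * j))) = p := by rw [Nat.card_zpowers, orderOf_eq_prime k4 v1]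
  refine ⟨_, pow_mem (mem_zpowers g) _, v1, ?_, k3⟩
  obtain ⟨y, -, l⟩ := (h.syl_of hA hA gd sd (le_cl hA e)).exists_conj_le (.of_card (n := 1) (by rw [k5, _root_.pow_one]))
    (zpowers_le.2 (pow_mem hg _))
  have := h.conj A hA y⁻¹
  rwa [← eq_of_le_of_card_le l (by rw [card_conj, k5, h.card A hA]), inv_conj_conj] at this

theorem gen2 (gd : IsPGroup r (rd D H)) (hg : g ∈ cl D H) (n : g ∉ rd D H) (l : rd D H ≤ S) (e : g ∈ S) :
    cl D H ≤ S := by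
  obtain ⟨v, hv, -, k1, -⟩ := h.pp gd hg n
  rw [h.cl_eq k1 (zpowers_le.2 (cl_le (zpowers_le.2 hg hv)))]
  exact sup_le l (zpowers_le.2 (zpowers_le.2 e hv))

/-- a point acts irreducibly on a line through it -/
theorem irr (hA : A ∈ D) (hB : B ∈ D) (hx : x ∈ A ⊔ B) (n : x ∉ 𝐍(A)) (e : ∀ a ∈ A, a * x * a⁻¹ ∈ S) :
    rd D (A ⊔ B) ≤ S := by
  set T := closure {y | ∃ a ∈ A, y = a * x * a⁻¹}
  have nT : A ≤ 𝐍(T) := fun a ha => mem_normalizer_of_conj_le (conj_le_iff_le_inv_conj.2 ((closure_le _).2 (by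
    rintro _ ⟨b, hb, rfl⟩
    exact mem_conj.2 (subset_closure ⟨a * b, mul_mem ha hb, by group⟩))))
  have xT : x ∈ T := subset_closure ⟨1, one_mem _, by group⟩
  have n1 : A ≠ B := fun q => n (le_norm _ (by rwa [← q, sup_idem] at hx))
  have l := h.line_eq hA hB (h.conj A hA x) n1 (fun q => n (norm_of_conj_eq q)) (conj_le_of_mem le_sup_left hx)
  refine (der_mono (cl_le.trans (l.ge.trans (sup_le le_sup_right (conj_le_of_mem le_sup_right (mem_sup_left xT)))))).trans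
    ((der_sup_le' nT (h.ab hA)).trans ((closure_le _).2 ?_))
  rintro _ ⟨a, ha, rfl⟩
  exact e a ha

theorem norm_zd' (gd : IsPGroup r (rd D H)) (hA : A ∈ D) (e : A ≤ H) (hx : x ∈ rd D H) (n : x ∈ 𝐍(A)) :
    x ∈ zd D H :=
  have f := h.full hA e gd
  h.cent_le_der hA f (mem_inf.2 ⟨hx, h.norm_le_cent hA gd f.2.1 (mem_inf.2 ⟨hx, n⟩)⟩)

theorem rd_self (hA : A ∈ D) : rd D (A ⊔ A) = ⊥ := by
  rw [rd, cl_line hA hA, sup_idem, abelian_iff_der.1 (h.ab hA)]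

theorem rd_ne_bot (hA : A ∈ D) (hB : B ∈ D) (n : A ≠ B) : rd D (A ⊔ B) ≠ ⊥ := fun q => by
  obtain ⟨x, hx, e⟩ := h.exists_conj hA hB le_sup_left le_sup_right
  rw [q, mem_bot] at hx
  exact n (by rw [← e, hx, conj_one])

/-- an element centralizing one point centralizes the points it normalizes -/
theorem cent_of_norm (hA : A ∈ D) (hB : B ∈ D) (e : A ≤ 𝐂[g]) (n : g ∈ 𝐍(B)) : B ≤ 𝐂[g] := fun b hb =>
  mem_cent1.2 (by
    have := h.lam hA hB n (j := 1) (fun a ha => by rw [← mem_cent1.1 (e ha)]; group) b hb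
    rw [zpow_one] at this
    rw [← this, inv_mul_cancel_right, this])

end

variable (h : W p 2 k D)
include h

theorem eq_one_of_sq (hA : A ∈ D) (ha : a ∈ A) (e : a * a = 1) : a = 1 := by
  obtain ⟨j, hj⟩ := hp.out.odd_of_ne_two h.p2
  have := h.pow_one hA ha
  rwa [hj, pow_succ, pow_mul, sq, e, one_pow, one_mul] at this

theorem sq_line (hA : A ∈ D) (hB : B ∈ D) (hx : x ∈ rd D (A ⊔ B)) : x * x ∈ zd D (A ⊔ B) := by
  by_cases q : rd D (A ⊔ B) ≤ zd D (A ⊔ B)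
  · exact mul_mem (q hx) (q hx)
  have gd := h.good_line hA hB
  let S : Subgroup G :=
    { carrier := {x | x ∈ rd D (A ⊔ B) ∧ x * x ∈ zd D (A ⊔ B)}
      one_mem' := ⟨one_mem _, by simp⟩
      inv_mem' := fun {x} hx => ⟨inv_mem hx.1, mul_inv_rev x x ▸ inv_mem hx.2⟩
      mul_mem' := fun {x y} hx hy => ⟨mul_mem hx.1 hy.1, by
        rw [show x * y * (x * y) = x * x * (x⁻¹ * y * x⁻¹⁻¹ * y⁻¹) * (y * y) by group]
        exact mul_mem (mul_mem hx.2 (comm_zd (inv_mem hx.1) hy.1)) hy.2⟩ }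
  obtain ⟨y, hy, y1⟩ := SetLike.not_le_iff_exists.1 q
  obtain ⟨j, hj⟩ := gd ⟨y, hy⟩
  have k1 : ∃ j, y ^ 2 ^ j ∈ zd D (A ⊔ B) := ⟨j, by
    rw [show y ^ 2 ^ j = 1 from congrArg Subtype.val hj]; exact one_mem _⟩
  classical
  obtain ⟨i, hi⟩ := Nat.exists_eq_succ_of_ne_zero (n := Nat.find k1) fun e => y1 (by simpa [e] using Nat.find_spec k1)
  have k2 := Nat.find_spec k1
  have k3 := Nat.find_min k1 (hi ▸ Nat.lt_succ_self i)
  rw [hi, pow_succ, pow_mul, sq] at k2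
  have nA := (le_cl hA le_sup_left).trans (cl_norm_rd (D := D) (H := A ⊔ B))
  refine (h.irr (S := S) hA hB (rd_le (pow_mem hy _)) (fun n => k3 (h.norm_zd' gd hA le_sup_left (pow_mem hy _) n))
    (fun a ha => ⟨conj_mem_of_norm (nA ha) (pow_mem hy _), ?_⟩) hx).2
  convert conj_mem_of_norm (cl_norm_zd (le_cl hA le_sup_left ha)) k2 using 1
  group

theorem sq (g : Gd D H) (hx : x ∈ rd D H) : x * x ∈ zd D H := by
  by_cases q : x ∈ zd D H
  · exact mul_mem q q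
  have : ∃ A ∈ D, A ≤ H := by
    by_contra c
    have : cl D H = ⊥ := eq_bot_iff.2 (cl_le_iff.2 fun A hA l => (c ⟨A, hA, l⟩).elim)
    exact q (mem_bot.1 (this.le (rd_le_cl hx)) ▸ one_mem _)
  obtain ⟨A, hA, e⟩ := this
  obtain ⟨y, hy, e1⟩ := h.exists_conj hA (h.conj A hA x) le_sup_left le_sup_right
  have l : cl D (A ⊔ x ⋆ A) ≤ H := cl_le.trans (sup_le e (conj_le_of_mem e (rd_le hx)))
  have k1 := h.norm_zd' g.g hA e (mul_mem (inv_mem (rd_mono l hy)) hx)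
    (norm_of_conj_eq (by rw [← conj_conj, ← e1, inv_conj_conj]))
  have k2 := g.com k1 (rd_le_cl (rd_mono l hy))
  rw [show x * x = y * y * (y⁻¹ * x * (y⁻¹ * x)) by
    calc _ = y * (y⁻¹ * x * y) * (y⁻¹ * x) := by group
      _ = _ := by rw [← k2]; group]
  exact mul_mem (zd_mono l (h.sq_line hA (h.conj A hA x) hy)) (mul_mem k1 k1)

theorem elem (g : Gd D H) (hz : z ∈ zd D H) : z * z = 1 := by
  let S : Subgroup G :=
    { carrier := {x | x ∈ zd D H ∧ x * x = 1}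
      one_mem' := ⟨one_mem _, by simp⟩
      inv_mem' := fun {x} hx => ⟨inv_mem hx.1, by rw [← mul_inv_rev, hx.2, inv_one]⟩
      mul_mem' := fun {x y} hx hy => ⟨mul_mem hx.1 hy.1, by
        rw [mul_assoc, ← mul_assoc y, g.com hx.1 (rd_le_cl (zd_le_rd hy.1)), mul_assoc, hy.2, mul_one, hx.2]⟩ }
  refine ((comm_le_iff.2 fun x hx y hy => ⟨comm_zd hx hy, ?_⟩ : zd D H ≤ S) hz).2
  have e1 := g.com (comm_zd hx hy) (rd_le_cl hx)
  have e2 := g.com (h.sq g hx) (rd_le_cl hy)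
  calc _ = (x * y * x⁻¹ * y⁻¹ * x) * y * x⁻¹ * y⁻¹ := by group
    _ = x * (x * y * x⁻¹ * y⁻¹ * y) * x⁻¹ * y⁻¹ := by rw [← e1]; group
    _ = (x * x * y) * (x * x)⁻¹ * y⁻¹ := by group
    _ = 1 := by rw [← e2]; group

/-- the quotients `u⁻¹ v` fix no point -/
theorem fpf (hA : A ∈ D) (hB : B ∈ D) (hC : C ∈ D) (n : A ≠ B) (g : Gd D (A ⊔ B)) (hu : u ∈ A) (u1 : u ≠ 1)
    (hv : v ∈ B) (e : u⁻¹ * v ∈ rd D (A ⊔ B)) : u⁻¹ * v ∉ 𝐍(C) := fun q => by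
  have v1 : v ≠ 1 := fun q => u1 (h.eq_one hA g.g hu (by simpa [q] using e))
  have k1 := g.com (h.norm_zd' g.g hC (h.uv hA hB hC n (inv_mem hu) hv v1 q) e q) (le_cl hA le_sup_left hu)
  refine n (h.eq_of_norm hA hB (norm_of_cent (h.le_of_mem hB hv v1 (le_cent1_iff.1 (h.le_of_mem hA hu u1
    (mem_cent1.2 ?_))))))
  calc u * v = u * (u * (u⁻¹ * v)) := by group
    _ = v * u := by rw [k1]; group

/-- three points -/
theorem three (hA : A ∈ D) (hB : B ∈ D) (hC : C ∈ D) (n : A ≠ B) (g : Gd D (A ⊔ B)) (hu : u ∈ A) (u1 : u ≠ 1)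
    (hv : v ∈ B) (hw : w ∈ C) (e : u⁻¹ * v ∈ rd D (A ⊔ B)) (i1 : u⁻¹ * v * (u⁻¹ * v) = 1)
    (i2 : u⁻¹ * w * (u⁻¹ * w) = 1) : u⁻¹ * v * (u⁻¹ * w) ∈ rd D (B ⊔ C) := by
  by_contra c
  have e1 : u⁻¹ * v * (u⁻¹ * w) = v⁻¹ * w := by rw [eq_inv_of_mul_eq_one_left i1]; group
  obtain ⟨y, ⟨j, rfl⟩, -, k1, -⟩ := h.pp (h.good_line hB hC)
    (by rw [cl_line hB hC, e1]; exact mul_mem_sup (inv_mem hv) hw) c
  refine h.fpf hA hB k1 n g hu u1 hv e (mem_normalizer_of_conj_le ?_)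
  generalize u⁻¹ * v = s at i1
  generalize u⁻¹ * w = t at i2
  rw [conj_zpowers, zpowers_le, ← conj_zpow, show s * (s * t) * s⁻¹ = (s * t)⁻¹ by
    rw [← mul_assoc, i1, one_mul, mul_inv_rev, ← eq_inv_of_mul_eq_one_left i2], inv_zpow]
  exact inv_mem (mem_zpowers _)

/-- if all lines are light then the whole space is good -/
theorem light_good (e : ∀ A ∈ D, ∀ B ∈ D, A ≠ B → zd D (A ⊔ B) = ⊥) : IsPGroup 2 (rd D ⊤) := by
  have e' : ∀ A ∈ D, ∀ B ∈ D, ∀ x ∈ rd D (A ⊔ B), x * x = 1 := fun A hA B hB x hx => by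
    by_cases n : A = B
    · subst n; rw [mem_bot.1 ((h.rd_self hA).le hx), one_mul]
    · exact mem_bot.1 ((e A hA B hB n).le (h.sq_line hA hB hx))
  by_cases q : ∃ A, A ∈ D
  swap
  · rw [rd, show cl D ⊤ = ⊥ from eq_bot_iff.2 (cl_le_iff.2 fun A hA _ => (q ⟨A, hA⟩).elim), commutator_bot_left]
    exact IsPGroup.of_bot
  obtain ⟨A, hA⟩ := q
  obtain ⟨u, hu, u1⟩ := exists_ne_one (h.ne_bot hA)
  set X : Set G := {x | ∃ B ∈ D, A ≠ B ∧ ∃ v ∈ B, u⁻¹ * v ∈ rd D (A ⊔ B) ∧ x = u⁻¹ * v}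
  have nT : A ≤ 𝐍(closure X) := fun a ha => mem_normalizer_of_conj_le (conj_le_iff_le_inv_conj.2 ((closure_le _).2 (by
    rintro _ ⟨B, hB, n, v, hv, k1, rfl⟩
    have e1 : a * (u⁻¹ * v) * a⁻¹ = u⁻¹ * (a * v * a⁻¹) := by
      rw [← mul_assoc, abelian_cent (h.ab hA) (inv_mem hu) a ha]; group
    refine mem_conj.2 (subset_closure ⟨a ⋆ B, h.conj B hB a, fun q => n ((conj_inj (g := a)).1 (by
      rw [conj_eq_of_mem ha, ← q])), _, conj_mem_conj.2 hv, ?_, by rw [inv_inv, e1]⟩)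
    rw [← e1, ← conj_eq_of_mem ha, ← conj_sup, ← h.conj_rd]
    exact conj_mem_conj.2 k1)))
  have ab : closure X ≤ 𝐂(closure X) := by
    have : ∀ x ∈ X, closure X ≤ 𝐂[x] := fun x hx => (closure_le _).2 fun y hy => mem_cent1.2 (by
      obtain ⟨B, hB, n, v, hv, k1, rfl⟩ := hx
      obtain ⟨C, hC, n', w, hw, k2, rfl⟩ := hy
      have i1 := e' A hA B hB _ k1
      have i2 := e' A hA C hC _ k2
      have i3 := e' B hB C hC _ (h.three hA hB hC n ⟨h.good_line hA hB, (e A hA B hB n).le.trans bot_le⟩ hu u1 hv hw k1 i1 i2)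
      rw [eq_inv_of_mul_eq_one_left i3, mul_inv_rev, ← eq_inv_of_mul_eq_one_left i1, ← eq_inv_of_mul_eq_one_left i2])
    exact (closure_le _).2 fun x hx => le_cent1_iff.1 (this x hx)
  refine h.sol (sol_of_le (sol_sup' (abelian_sol (abelian_iff.2 ab)) (pgroup_sol (h.pg hA)) nT)
    (cl_le_iff.2 fun B hB _ => ?_))
  by_cases n : A = B
  · exact n ▸ le_sup_right
  obtain ⟨v, hv, k1⟩ := h.par hA hB hu
  refine h.le_of_mem hB hv (fun q => u1 (h.eq_one hA (h.good_line hA hB) hu (by simpa [q] using k1))) ?_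
  exact mul_inv_cancel_left u v ▸ mul_mem (mem_sup_right hu) (mem_sup_left (subset_closure ⟨B, hB, n, v, hv, k1, rfl⟩))

/-- an involution centralizing a point acts trivially on `cl H / rd H` -/
theorem triv (hA : A ∈ D) (e : A ≤ 𝐂[t]) (i : t * t = 1) (gd : IsPGroup 2 (rd D H)) (n : t ∈ 𝐍(cl D H))
    (hu : u ∈ cl D H) : t * u * t⁻¹ * u⁻¹ ∈ rd D H := by
  by_contra c
  obtain ⟨y, ⟨j, rfl⟩, y1, k1, -⟩ := h.pp gd (mul_mem (conj_mem_of_norm n hu) (inv_mem hu)) c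
  have e1 : t * (t * u * t⁻¹ * u⁻¹) ^ j * t⁻¹ = ((t * u * t⁻¹ * u⁻¹) ^ j)⁻¹ := by
    rw [← conj_zpow, ← inv_zpow]
    congr 1
    rw [show t * (t * u * t⁻¹ * u⁻¹) * t⁻¹ = t * t * u * (t * t)⁻¹ * t * u⁻¹ * t⁻¹ by group, i]
    group
  have := mem_cent1.1 (h.cent_of_norm hA k1 e (mem_normalizer_of_conj_le (by
    rw [conj_zpowers, zpowers_le, e1]; exact inv_mem (mem_zpowers _))) (mem_zpowers _))
  refine y1 (h.eq_one_of_sq k1 (mem_zpowers _) ?_)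
  rw [← this, mul_inv_cancel_right] at e1
  exact mul_eq_one_iff_eq_inv.2 e1

/-- an element whose square acts trivially on `cl H / rd H` acts trivially or inverts -/
theorem dich (gd : IsPGroup 2 (rd D H)) (n : x ∈ 𝐍(cl D H)) (e : ∀ u ∈ cl D H, x * x * u * (x * x)⁻¹ * u⁻¹ ∈ rd D H)
    (c : ¬ ∀ u ∈ cl D H, x * u * x⁻¹ * u⁻¹ ∈ rd D H) : ∀ u ∈ cl D H, x * u * x⁻¹ * u ∈ rd D H := by
  let S : Subgroup G :=
    { carrier := {y | y ∈ cl D H ∧ x * y * x⁻¹ * y ∈ rd D H}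
      one_mem' := ⟨one_mem _, by simp⟩
      inv_mem' := fun {y} hy => ⟨inv_mem hy.1, by
        convert conj_mem_of_norm (cl_norm_rd hy.1) (inv_mem hy.2) using 1; group⟩
      mul_mem' := fun {y z} hy hz => ⟨mul_mem hy.1 hz.1, by
        convert mul_mem (mul_mem hy.2 (conj_mem_of_norm' (cl_norm_rd hy.1) hz.2))
          (comm_rd (inv_mem hy.1) (inv_mem hz.1)) using 1; group⟩ }
  push Not at c
  obtain ⟨u, hu, c⟩ := c
  have k1 := mul_mem (conj_mem_of_norm n hu) (inv_mem hu)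
  refine fun v hv => (h.gen2 (S := S) gd k1 c (fun y hy => ⟨rd_le_cl hy, mul_mem (conj_mem_of_norm
    (norm_der (le_refl 𝐍(cl D H)) n) hy) hy⟩) ⟨k1, ?_⟩ hv).2
  convert e u hu using 1
  group

/-- an involution centralizing a point is `ρ s` with `s` centralizing the line `C ⊔ z C` -/
theorem split (hA : A ∈ D) (e : A ≤ 𝐂[z]) (i : z * z = 1) (hC : C ∈ D) (g : Gd D (C ⊔ z ⋆ C)) :
    ∃ ρ ∈ rd D (C ⊔ z ⋆ C), ρ ⋆ C = z ⋆ C ∧ ρ * z = z * ρ ∧ C ≤ 𝐂[ρ⁻¹ * z] := by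
  have hC' := h.conj C hC z
  obtain ⟨ρ, hρ, e1⟩ := h.exists_conj hC hC' le_sup_left le_sup_right
  have zz : z ⋆ z ⋆ C = C := by rw [conj_conj, i, conj_one]
  have nz : z ∈ 𝐍(cl D (C ⊔ z ⋆ C)) := norm_of_conj_eq (by rw [cl_line hC hC', conj_sup, zz, sup_comm])
  have n1 : ρ⁻¹ * z ∈ 𝐍(C) := norm_of_conj_eq (by rw [← conj_conj, ← e1, inv_conj_conj])
  have c1 : C ≤ 𝐂[ρ⁻¹ * z] := fun c hc => mem_cent1.2 (by
    have l : c ∈ cl D (C ⊔ z ⋆ C) := le_cl hC le_sup_left hc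
    have := h.eq_one hC g.g (mul_mem (conj_mem_of_norm n1 hc) (inv_mem hc)) (by
      convert mul_mem (mul_mem (inv_mem hρ) (h.triv hA e i g.g nz l)) (conj_mem_of_norm (cl_norm_rd l) hρ) using 1
      group)
    rw [mul_inv_eq_one, mul_inv_eq_iff_eq_mul] at this
    exact this.symm)
  have c2 : z ⋆ C ≤ 𝐂[ρ⁻¹ * z] := h.cent_of_norm hC hC' c1 (norm_of_conj_eq (by
    have := conj_eq_of_cent (cent_anti (le_cl hC le_sup_left) (g.c (h.sq g hρ)))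
    rw [← conj_conj, zz, ← e1, eq_comm, ← conj_inj (g := ρ), conj_conj, this, conj_inv_conj]))
  refine ⟨ρ, hρ, e1, ?_, c1⟩
  have := mem_cent1.1 (sup_le c1 c2 (rd_le hρ))
  calc ρ * z = ρ * (ρ * (ρ⁻¹ * z)) := by group
    _ = _ := by rw [this]; group

end W

end Cfsg.Lib.FSet
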