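import Cfsg.Agent.Lib.FSet.P4a

/-! F-sets, part IV: big subspaces in characteristic two. -/

set_option autoImplicit false
set_option linter.unusedSectionVars false

namespace Cfsg.Lib.FSet

open Subgroup Cfsg.Lib.BG Cfsg.Lib.Transfer
open scoped Cfsg.Lib.Transfer

variable {G : Type*} [Group G] {p r k : ℕ} {D : Set (Subgroup G)} {A B C H K N R S : Subgroup G}
  {a b c g t u v w x y z : G} [hp : Fact p.Prime] [Finite G]

theorem Hv.ex_pt (e : Hv r D z) : ∃ A ∈ D, A ≤ 𝐂[z] := by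
  by_contra c
  have : cl D 𝐂[z] = ⊥ := eq_bot_iff.2 (cl_le_iff.2 fun A hA l => (c ⟨A, hA, l⟩).elim)
  exact e.ne (mem_bot.1 (this.le (rd_le_cl (zd_le_rd e.mem))))

theorem pg_zpowers (h : t * t = 1) : IsPGroup 2 (zpowers t) := fun x => ⟨1, Subtype.ext (by
  obtain ⟨_, j, rfl⟩ := x
  change (t ^ j) ^ 2 ^ 1 = 1
  rw [pow_one, sq, ← (Commute.refl t).mul_zpow, h, one_zpow])⟩

theorem ex_out (ng : ¬ IsPGroup r (rd D ⊤)) (g : IsPGroup r (rd D H)) : ∃ C ∈ D, ¬ C ≤ H := by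
  by_contra c
  push Not at c
  exact ng (g.to_le (rd_mono (cl_le_iff.2 fun C hC _ => c C hC)))

namespace Cx

variable (h : Cx p 2 k D)
include h

theorem gd (g : IsPGroup 2 (rd D H)) : Gd D H := ⟨g, h.zd_cent h.m2 g⟩

theorem gdl (hA : A ∈ D) (hB : B ∈ D) : Gd D (A ⊔ B) := h.gd (h.good_line hA hB)

theorem hsq (e : Hv 2 D z) : z * z = 1 := h.elem (h.gd e.good) e.mem

theorem hvl (hA : A ∈ D) (hB : B ∈ D) (hz : z ∈ zd D (A ⊔ B)) (z1 : z ≠ 1) : Hv 2 D z ∧ A ≤ 𝐂[z] ∧ B ≤ 𝐂[z] :=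
  have k := h.hv (h.good_line hA hB) hz z1
  ⟨k.1, (le_cl hA le_sup_left).trans k.2, (le_cl hB le_sup_right).trans k.2⟩

/-- if `u⁻¹ v` is an involution, every big subspace through `A` contains `B` -/
theorem ns (e : Hv 2 D z) (hA : A ∈ D) (hB : B ∈ D) (n : A ≠ B) (l : A ≤ 𝐂[z]) (hu : u ∈ A) (u1 : u ≠ 1)
    (hv : v ∈ B) (k1 : u⁻¹ * v ∈ rd D (A ⊔ B)) (i : u⁻¹ * v * (u⁻¹ * v) = 1) : B ≤ 𝐂[z] := by
  have zA : z ⋆ A = A := conj_eq_of_cent (le_cent1_iff.1 l)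
  have zz : z ⋆ z ⋆ B = B := by rw [conj_conj, h.hsq e, conj_one]
  have hC := h.conj B hB z
  have n' : A ≠ z ⋆ B := fun q => n (by rw [← zA, q, zz])
  have cj : ∀ g, g * u = u * g → g * (u⁻¹ * v) * g⁻¹ = u⁻¹ * (g * v * g⁻¹) := fun g q => by
    rw [← mul_assoc, (show Commute g u from q).inv_right.eq]; group
  have cj' : ∀ g, g * u = u * g → g ⋆ A = A → u⁻¹ * (g * v * g⁻¹) ∈ rd D (A ⊔ g ⋆ B) ∧
      u⁻¹ * (g * v * g⁻¹) * (u⁻¹ * (g * v * g⁻¹)) = 1 := fun g q q' => by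
    rw [← cj g q, ← q', ← conj_sup, ← h.conj_rd]
    exact ⟨conj_mem_conj.2 k1, by rw [conj_mul, i]; group⟩
  obtain ⟨k2, i2⟩ := cj' z (mem_cent1.1 (l hu)).symm zA
  have hw : z * v * z⁻¹ ∈ z ⋆ B := conj_mem_conj.2 hv
  suffices g : IsPGroup 2 (rd D (A ⊔ (B ⊔ z ⋆ B))) from
    (le_cl hB (le_sup_of_le_right le_sup_left)).trans (h.crux e g hA le_sup_left l (h.norm_cl (le_refl _)
      (norm_of_conj_eq (by rw [conj_sup, conj_sup, zA, zz, sup_comm B]))))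
  generalize z * v * z⁻¹ = w at k2 i2 hw
  generalize z ⋆ B = C at k2 hw hC n'
  by_cases q : ∀ a ∈ A, a * (u⁻¹ * v) * a⁻¹ ∈ 𝐂[u⁻¹ * w]
  · have nA : ∀ B, A ≤ 𝐍(rd D (A ⊔ B)) := fun B => (le_cl hA le_sup_left).trans cl_norm_rd
    have c1 := h.irr hA hB (rd_le k1) (h.fpf hA hB hA n (h.gdl hA hB) hu u1 hv k1) q
    have c2 := h.irr hA hC (rd_le k2) (h.fpf hA hC hA n' (h.gdl hA hC) hu u1 hw k2)
      fun a ha => conj_mem_of_norm (norm_cent (nA B) ha) (le_cent1_iff.1 c1)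
    refine (h.good_sup hA (pgroup_sup (h.good_line hA hB) (h.good_line hA hC) (norm_of_cent c2))
      (norm_sup (nA B) (nA C))).to_le (rd_mono (cl_le.trans (sup_le le_sup_right (sup_le ?_ ?_))))
    · exact (le_cl hB le_sup_right).trans ((h.cl_eq hA le_sup_left).le.trans (sup_le_sup_right le_sup_left A))
    · exact (le_cl hC le_sup_right).trans ((h.cl_eq hA le_sup_left).le.trans (sup_le_sup_right le_sup_right A))
  push Not at q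
  obtain ⟨a, ha, q⟩ := q
  have au := abelian_cent (h.ab hA) hu a ha
  obtain ⟨k3, i3⟩ := cj' a au (conj_eq_of_mem ha)
  rw [cj a au] at q
  have hv' : a * v * a⁻¹ ∈ a ⋆ B := conj_mem_conj.2 hv
  have hB' := h.conj B hB a
  have k4 := h.sq_line hB' hC (h.three hA hB' hC (fun q => n ((conj_inj (g := a)).1 (by rw [conj_eq_of_mem ha, ← q])))
    (h.gdl hA hB') hu u1 hv' hw k3 i3 i2)
  have k5 := h.elem (h.gdl hB' hC) k4
  generalize hs : u⁻¹ * (a * v * a⁻¹) = s at q i3 k4 k5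
  generalize u⁻¹ * w = t at q i2 k4 k5
  have s1 := eq_inv_of_mul_eq_one_left i3
  have t1 := eq_inv_of_mul_eq_one_left i2
  obtain ⟨e', l1, l2⟩ := h.hvl hB' hC k4 fun q' => q (mem_cent1.2 (by
    rw [eq_inv_of_mul_eq_one_left q', mul_inv_rev, ← s1, ← t1]))
  have l3 : A ≤ 𝐂[s * t * (s * t)] := h.le_of_mem hA hu u1 (by
    rw [show u = a * v * a⁻¹ * s⁻¹ by rw [← hs]; group]
    refine mul_mem (l1 hv') (inv_mem (mem_cent1.2 ?_))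
    conv_rhs => rw [eq_inv_of_mul_eq_one_left k5]
    simp only [mul_inv_rev, ← s1, ← t1, ← mul_assoc, i3, one_mul]
    rw [mul_assoc _ s s, i3, mul_one])
  exact e'.good.to_le (rd_mono (cl_le.trans (sup_le l3 (sup_le
    (inv_conj_conj a B ▸ conj_le_of_mem l1 (inv_mem (l3 ha))) l2))))

theorem ns' (e : Hv 2 D z) (hA : A ∈ D) (hB : B ∈ D) (l : A ≤ 𝐂[z]) (q : zd D (A ⊔ B) = ⊥) : B ≤ 𝐂[z] := by
  by_cases n : A = B
  · exact n ▸ l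
  obtain ⟨u, hu, u1⟩ := exists_ne_one (h.ne_bot hA)
  obtain ⟨v, hv, k1⟩ := h.par hA hB hu
  exact h.ns e hA hB n l hu u1 hv k1 (mem_bot.1 (q.le (h.sq_line hA hB k1)))

theorem two_big (ng : ¬ IsPGroup 2 (rd D ⊤)) (e : Hv 2 D z) (hA : A ∈ D) (l : A ≤ 𝐂[z]) :
    ∃ w, Hv 2 D w ∧ A ≤ 𝐂[w] ∧ cl D 𝐂[z] ≠ cl D 𝐂[w] := by
  obtain ⟨C, hC, c⟩ := ex_out ng e.good
  obtain ⟨w, hw, w1⟩ := exists_ne_one fun q => c (h.ns' e hA hC l q)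
  obtain ⟨e', l1, l2⟩ := h.hvl hA hC hw w1
  exact ⟨w, e', l1, fun q => c ((le_cl hC l2).trans (q.ge.trans cl_le))⟩

theorem ex_big (ng : ¬ IsPGroup 2 (rd D ⊤)) (hA : A ∈ D) : ∃ z, Hv 2 D z ∧ A ≤ 𝐂[z] := by
  by_contra c
  refine ng (h.light_good fun B hB C hC _ => by_contra fun q => ?_)
  obtain ⟨w, hw, w1⟩ := exists_ne_one q
  obtain ⟨e, l, -⟩ := h.hvl hB hC hw w1
  obtain ⟨x, -, rfl⟩ := h.conj_line hB hA
  exact c ⟨_, e.conj h.toW x, conj_cent1 x w ▸ conj_mono x l⟩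

/-- without abelian normal subgroups all lines are heavy -/
theorem heavy (ng : ¬ IsPGroup 2 (rd D ⊤)) (nn : ∀ N : Subgroup G, ⊤ ≤ 𝐍(N) → N ≤ 𝐂(N) → N = ⊥) :
    ∀ A ∈ D, ∀ B ∈ D, A ≠ B → zd D (A ⊔ B) ≠ ⊥ := fun A hA B hB n q => by
  set X : Set G := {x | ∃ A ∈ D, ∃ B ∈ D, zd D (A ⊔ B) = ⊥ ∧ x ∈ rd D (A ⊔ B)}
  have cj : ∀ g : G, ∀ {A B x}, zd D (A ⊔ B) = ⊥ → x ∈ rd D (A ⊔ B) →
      zd D (g ⋆ A ⊔ g ⋆ B) = ⊥ ∧ g * x * g⁻¹ ∈ rd D (g ⋆ A ⊔ g ⋆ B) := fun g A B x k1 k2 => by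
    rw [← conj_sup, ← h.conj_zd, ← h.conj_rd, k1]
    exact ⟨Subgroup.map_bot _, conj_mem_conj.2 k2⟩
  refine h.rd_ne_bot hA hB n (eq_bot_mono (nn (closure X) (fun g _ => mem_normalizer_of_conj_le
    (conj_le_iff_le_inv_conj.2 ((closure_le _).2 ?_))) ?_) fun x hx => subset_closure ⟨A, hA, B, hB, q, hx⟩)
  · rintro x ⟨A, hA, B, hB, k1, k2⟩
    exact mem_conj.2 (subset_closure ⟨_, h.conj A hA g, _, h.conj B hB g, by rw [inv_inv]; exact cj g k1 k2⟩)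
  suffices ∀ x ∈ X, closure X ≤ 𝐂[x] from (closure_le _).2 fun x hx => le_cent1_iff.1 (this x hx)
  rintro x ⟨A, hA, B, hB, k1, k2⟩
  refine (closure_le _).2 ?_
  rintro y ⟨C, hC, C', hC', k3, k4⟩
  obtain ⟨z, e, l1, l2⟩ : ∃ z, Hv 2 D z ∧ A ≤ 𝐂[z] ∧ C ≤ 𝐂[z] := by
    by_cases q : zd D (A ⊔ C) = ⊥
    · obtain ⟨z, e, l⟩ := h.ex_big ng hA
      exact ⟨z, e, l, h.ns' e hA hC l q⟩
    · obtain ⟨w, hw, w1⟩ := exists_ne_one q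
      exact ⟨w, h.hvl hA hC hw w1⟩
  obtain ⟨g, hg, e1⟩ := h.exists_conj hC hA l2 l1
  obtain ⟨k5, k6⟩ := cj g k3 k4
  rw [e1] at k5 k6
  obtain ⟨w, e', l3, n⟩ := h.two_big ng e hA l1
  have l : ∀ {z B x}, Hv 2 D z → B ∈ D → A ≤ 𝐂[z] → zd D (A ⊔ B) = ⊥ → x ∈ rd D (A ⊔ B) → x ∈ rd D 𝐂[z] :=
    fun e hB l q hx => rd_mono (cl_le.trans (sup_le l (h.ns' e hA hB l q))) hx
  have hD := h.conj C' hC' g
  have c1 := mem_bot.1 ((h.ti e e' n).le (mem_inf.2 ⟨comm_zd (l e hB l1 k1 k2) (l e hD l1 k5 k6),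
    comm_zd (l e' hB l3 k1 k2) (l e' hD l3 k5 k6)⟩))
  have c2 := (h.gd e.good).com (comm_zd (inv_mem hg) (l e hD l1 k5 k6)) (rd_le_cl (l e hB l1 k1 k2))
  rw [mul_inv_eq_one, mul_inv_eq_iff_eq_mul] at c1
  refine mem_cent1.2 ?_
  rw [show y = g⁻¹ * (g * y * g⁻¹) * g⁻¹⁻¹ * (g * y * g⁻¹)⁻¹ * (g * y * g⁻¹) by group, mul_assoc _ _ x, ← c1,
    ← mul_assoc, ← c2, mul_assoc]

end Cx

/-- the core situation -/
structure Co (p k : ℕ) (D : Set (Subgroup G)) : Prop extends Cx p 2 k D where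
  hvy : ∀ A ∈ D, ∀ B ∈ D, A ≠ B → zd D (A ⊔ B) ≠ ⊥
  ng : ¬ IsPGroup 2 (rd D ⊤)

namespace Co

variable (h : Co p k D)
include h

/-- there are no involutions in `R_Ψ - Z_Ψ` -/
theorem noinv (e : Hv 2 D z) (hx : x ∈ rd D 𝐂[z]) (i : x * x = 1) : x ∈ zd D 𝐂[z] := by
  by_contra c
  obtain ⟨A, hA, l⟩ := e.ex_pt
  obtain ⟨u, hu, u1⟩ := exists_ne_one (h.ne_bot hA)
  have k0 := mul_mem (le_cl hA l hu) (rd_le_cl hx)
  obtain ⟨v, hv, v1, hB, k1⟩ := h.pp e.good k0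
    fun q => u1 (h.eq_one hA e.good hu ((mul_mem_cancel_right hx).1 q))
  have lB : zpowers v ≤ 𝐂[z] := zpowers_le.2 (cl_le (zpowers_le.2 k0 hv))
  have k2 : v⁻¹ * (u * x) ∈ zd D 𝐂[z] := (h.zd_eq h.m2 hB lB e.good).ge (mem_inf.2 ⟨k1, le_cent1_iff.1 (zpowers_le.2
    (mem_cent1.2 (abelian_cent (abelian_of_cyclic inferInstance) (mul_mem (inv_mem hv) (mem_zpowers _)) v hv)))⟩)
  have e1 : u⁻¹ * v = x * (v⁻¹ * (u * x))⁻¹ := by group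
  have k3 : u⁻¹ * v ∈ rd D 𝐂[z] := e1 ▸ mul_mem hx (inv_mem k1)
  have i' : u⁻¹ * v * (u⁻¹ * v) = 1 := by
    have := (h.gd e.good).com (inv_mem k2) (rd_le_cl hx)
    rw [e1, mul_assoc, ← mul_assoc _ x, ← this, mul_assoc, ← mul_inv_rev, h.elem (h.gd e.good) k2, inv_one, mul_one, i]
  have n : A ≠ zpowers v := fun q => c (by
    have := h.eq_one hA e.good (mul_mem (inv_mem hu) (q.ge (mem_zpowers v))) k3
    rw [e1, mul_inv_eq_one] at this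
    exact this.symm ▸ k2)
  obtain ⟨b, hb, k4⟩ := h.par hA hB hu
  have e2 : b = v := by
    have := h.eq_one hB e.good (mul_mem (inv_mem hb) (mem_zpowers v)) (by
      convert mul_mem (inv_mem (rd_mono (cl_le.trans (sup_le l lB)) k4)) k3 using 1; group)
    exact inv_mul_eq_one.1 this
  obtain ⟨w, e', l', n'⟩ := h.two_big h.ng e hA l
  exact h.hvy A hA _ hB n (eq_bot_mono (h.ti e e' n') (le_inf (zd_mono (cl_le.trans (sup_le l lB)))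
    (zd_mono (cl_le.trans (sup_le l' (h.ns e' hA hB n l' hu u1 (mem_zpowers v) (e2 ▸ k4) i'))))))

theorem jj (e : Hv 2 D z) (pt : IsPGroup 2 (zpowers t)) (n : t ∈ 𝐍(cl D 𝐂[z])) (c : zd D 𝐂[z] ≤ 𝐂[t])
    (tr : ∀ u ∈ cl D 𝐂[z], t * u * t⁻¹ * u⁻¹ ∈ rd D 𝐂[z]) (hx : x ∈ rd D 𝐂[z]) : t * x * t⁻¹ * x⁻¹ ∈ zd D 𝐂[z] := by
  obtain ⟨A, hA, l⟩ := e.ex_pt
  have f := h.full hA l e.good
  have cz := h.zd_rd e.good
  have ez := h.zd_eq h.m2 hA l e.good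
  have lz : zd D 𝐂[z] ≤ rd D 𝐂[z] := zd_le_rd
  have dz : ⁅rd D 𝐂[z], rd D 𝐂[z]⁆ ≤ zd D 𝐂[z] := le_rfl
  have nR : zpowers t ≤ 𝐍(rd D 𝐂[z]) := h.norm_rd' (zpowers_le.2 n)
  generalize rd D 𝐂[z] = R at *
  generalize zd D 𝐂[z] = Z at *
  set T := R ⊔ zpowers t
  have cT : T ≤ 𝐂(Z) := sup_le (cent_symm cz) (zpowers_le.2 (le_cent1_iff.1 c))
  have n1 : T ≤ 𝐍(Z) := norm_of_cent cT
  have n2 : A ≤ 𝐍(Z) := norm_of_cent (cent_symm (ez.le.trans inf_le_right))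
  have n3 : T ≤ 𝐍(R) := sup_le (le_norm R) nR
  have n4 : A ≤ 𝐍(T) := fun a ha => mem_normalizer_of_conj_le (by
    rw [conj_sup, conj_eq_of_norm (f.2.1 ha), conj_zpowers]
    refine sup_le le_sup_left (zpowers_le.2 ?_)
    rw [show a * t * a⁻¹ = (t * a * t⁻¹ * a⁻¹)⁻¹ * t by group]
    exact mul_mem_sup (inv_mem (tr a (le_cl hA l ha))) (mem_zpowers t))
  have l1 : ⁅T, R⁆ ≤ R := comm_le_right n3
  have l2 : R ≤ T := le_sup_left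
  suffices k : ⁅T, R⁆ ≤ Z from k (comm_mem_comm (mem_sup_right (mem_zpowers t)) hx)
  refine (quo_eq_bot_iff ((l1.trans l2).trans n1)).1 (by_contra fun c => ?_)
  have k1 := nil_meet_center (nil_quo (pgroup_nil (pgroup_sup f.1 pt nR)) Z) (quo_mono (l1.trans l2) _)
    (quo_norm (left_norm_comm T R) _) c
  rw [← quo_copre 𝐂(quo T Z), ← quo_inf_of_le_right (le_copre _)] at k1
  set E := ⁅T, R⁆ ⊓ copre Z 𝐂(quo T Z)
  have l3 : E ≤ R := inf_le_left.trans l1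
  have k2 : ⁅E, T⁆ ≤ Z := (quo_le_cent_iff ((l3.trans l2).trans n1) n1).1
    ((le_copre_iff ((l3.trans l2).trans n1)).1 inf_le_right)
  have k3 : ⁅⁅T, R⁆, E⁆ ≤ ⊥ := Core.three_subgroups le_normalizer_of_normal le_normalizer_of_normal
    le_normalizer_of_normal (comm_eq_bot_iff.2 (((commutator_mono le_rfl l3).trans dz).trans (cent_symm cT))).le
    (comm_eq_bot_iff.2 (k2.trans cz)).le
  exact k1 (quo_eq_bot ((le_inf l3 (h.cent_of_heavy h.hvy hA (f.1.to_le l3)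
    (norm_inf (norm_comm n4 f.2.1) (norm_copre n2 (norm_cent (quo_norm n4 _))))
    (abelian_iff.2 (inf_le_left.trans (comm_eq_bot_iff.1 (le_bot_iff.1 k3)))))).trans ez.ge))

theorem jj2 (e : Hv 2 D z) (pt : IsPGroup 2 (zpowers t)) (n : t ∈ 𝐍(cl D 𝐂[z])) (c : zd D 𝐂[z] ≤ 𝐂[t])
    (tr : ∀ u ∈ cl D 𝐂[z], t * u * t⁻¹ * u⁻¹ ∈ rd D 𝐂[z]) : cl D 𝐂[z] ≤ 𝐂[t * t] := by
  obtain ⟨A, hA, l⟩ := e.ex_pt
  have g := h.gd e.good
  obtain ⟨ρ, hρ, e1⟩ := h.exists_conj hA (h.conj A hA t) l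
    ((conj_mono t (le_cl hA l)).trans ((conj_eq_of_norm n).le.trans cl_le))
  have n1 : ρ⁻¹ * t ∈ 𝐍(A) := norm_of_conj_eq (by rw [← conj_conj, ← e1, inv_conj_conj])
  have c1 : A ≤ 𝐂[ρ⁻¹ * t] := fun c hc => mem_cent1.2 (by
    have l := le_cl hA l hc
    have := h.eq_one hA g.g (mul_mem (conj_mem_of_norm n1 hc) (inv_mem hc)) (by
      convert mul_mem (mul_mem (inv_mem hρ) (tr c l)) (conj_mem_of_norm (cl_norm_rd l) hρ) using 1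
      group)
    rw [mul_inv_eq_one, mul_inv_eq_iff_eq_mul] at this
    exact this.symm)
  have c2 : cl D 𝐂[z] ≤ 𝐂[ρ⁻¹ * t] := cl_le_iff.2 fun B hB lB => by
    obtain ⟨y, hy, rfl⟩ := h.exists_conj hA hB l lB
    refine h.cent_of_norm hA hB c1 (norm_of_conj_eq ?_)
    have := mul_mem (conj_mem_of_norm' (rd_norm_zd hρ) (h.jj e pt n c tr hy)) (comm_zd (inv_mem hρ) hy)
    rw [conj_conj, show ρ⁻¹ * t * y = ρ⁻¹ * (t * y * t⁻¹ * y⁻¹) * ρ * (ρ⁻¹ * y * ρ⁻¹⁻¹ * y⁻¹) * (y * (ρ⁻¹ * t)) by group,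
      ← conj_conj, ← conj_conj _ _ A, conj_eq_of_norm n1, conj_eq_of_cent (cent_anti (le_cl hB lB) (g.c this))]
  have c3 := mem_cent1.1 (c2 (rd_le_cl hρ))
  rw [show t * t = ρ * ρ * (ρ⁻¹ * t * (ρ⁻¹ * t)) by
    calc _ = ρ * (ρ⁻¹ * t * ρ) * (ρ⁻¹ * t) := by group
      _ = _ := by rw [← c3]; group]
  exact le_cent1_iff.2 (mul_mem (g.c (h.sq g hρ)) (mul_mem (le_cent1_iff.1 c2) (le_cent1_iff.1 c2)))

end Co

end Cfsg.Lib.FSet
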