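import Cfsg.Agent.Lib.FSet.P4b
import Cfsg.Agent.Lib.BG.T03_6a

/-! F-sets, part IV: pairs of commuting heavy involutions. -/

set_option autoImplicit false
set_option linter.unusedSectionVars false

namespace Cfsg.Lib.FSet

open Subgroup Cfsg.Lib.BG Cfsg.Lib.Transfer
open scoped Cfsg.Lib.Transfer

variable {G : Type*} [Group G] {p r k : ℕ} {D : Set (Subgroup G)} {A B C H K N R S : Subgroup G}
  {a b c g t u v w x y z : G}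

/-- the unitary configuration inside `H` -/
def U4 (p k : ℕ) (D : Set (Subgroup G)) (H : Subgroup G) : Prop :=
  p = 3 ∧ k = 4 ∧ ∀ A ∈ D, ∀ B ∈ D, A ≤ H → B ≤ H → A ≠ B → zd D (A ⊔ B) ≠ ⊥ ∧
    ∀ z ∈ zd D (A ⊔ B), z ≠ 1 → ∀ C ∈ D, C ≤ H → C ≤ 𝐂[z] → C ≤ A ⊔ B

/-- parallel elements of points -/
def Pl (D : Set (Subgroup G)) (a b : G) : Prop :=
  ∃ A ∈ D, ∃ B ∈ D, a ∈ A ∧ b ∈ B ∧ ∃ H, IsPGroup 2 (rd D H) ∧ A ≤ H ∧ B ≤ H ∧ a⁻¹ * b ∈ rd D H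

/-- commuting heavy involutions with different big subspaces -/
structure Pr (D : Set (Subgroup G)) (z w : G) : Prop where
  l : Hv 2 D z
  r : Hv 2 D w
  ne : cl D 𝐂[z] ≠ cl D 𝐂[w]
  com : z * w = w * z

theorem Pr.symm (e : Pr D z w) : Pr D w z := ⟨e.r, e.l, e.ne.symm, e.com.symm⟩

variable [hp : Fact p.Prime] [Finite G]

theorem W.ncard_line [Fact r.Prime] (h : W p r k D) (hA : A ∈ D) (hB : B ∈ D) (n : A ≠ B) :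
    {C | C ∈ D ∧ C ≤ A ⊔ B}.ncard = k ∧ p + 1 ≤ k := by
  have e : {C | C ∈ D ∧ C ≤ A ⊔ B}.ncard = k := by
    rw [← h.idx A hA B hB n, ← ncard_cjOrbit]
    congr 1
    refine Set.ext fun C => ⟨fun q => ?_, ?_⟩
    · obtain ⟨x, hx, e⟩ := h.exists_conj hA q.1 le_sup_left q.2
      exact ⟨x, rd_le hx, e.symm⟩
    · rintro ⟨x, hx, rfl⟩
      exact ⟨h.conj A hA x, conj_le_of_mem le_sup_left hx⟩
  have i : A ⊓ 𝐍(B) = ⊥ := inf_eq_bot_of_prime (h.prime hA) fun q => n (h.eq_of_norm hB hA q).symm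
  have e' : (cjOrbit A B).ncard = p := by
    rw [ncard_cjOrbit, ← inf_relIndex_right, inf_comm, i, relIndex_bot_left, h.card A hA]
  refine ⟨e, ?_⟩
  have m : A ∉ cjOrbit A B := fun ⟨x, hx, q⟩ => n ((conj_inj (g := x)).1 (by rw [conj_eq_of_mem hx, ← q]))
  rw [← e, ← e', ← Set.ncard_insert_of_notMem m]
  refine Set.ncard_le_ncard ?_
  rintro _ (rfl | ⟨x, hx, rfl⟩)
  · exact ⟨hA, le_sup_left⟩
  · exact ⟨h.conj B hB x, conj_le_of_mem le_sup_right (mem_sup_left hx)⟩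

namespace Co

variable (h : Co p k D)
include h

theorem ex_pr (e : Hv 2 D w) : ∃ z, Pr D z w := by
  obtain ⟨A, hA, l⟩ := e.ex_pt
  obtain ⟨C, hC, c⟩ := ex_out h.ng e.good
  have hC' := h.conj C hC w
  obtain ⟨z, hz, z1, q⟩ := exists_cent (h.zd_pg (h.good_line hC hC')) (pg_zpowers (h.hsq e))
    (h.norm_zd (zpowers_le.2 (norm_of_conj_eq (by rw [conj_sup, conj_conj, h.hsq e, conj_one, sup_comm]))))
    (h.hvy C hC _ hC' fun q => c (h.cent_of_norm hA hC l (norm_of_conj_eq q.symm)))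
  obtain ⟨e', l', -⟩ := h.hvl hC hC' hz z1
  exact ⟨z, e', e, fun q => c ((le_cl hC l').trans (q.le.trans cl_le)), (q w (mem_zpowers w)).symm⟩

theorem nrm (e : Pr D z w) : z ∈ 𝐍(cl D 𝐂[w]) := h.norm_cl (le_norm _) (mem_cent1.2 e.com)

theorem disj (e : Pr D z w) (hC : C ∈ D) (l : C ≤ 𝐂[w]) : ¬ C ≤ 𝐂[z] := fun q =>
  h.not_le e.r e.l e.ne (h.crux e.l e.r.good hC l q (h.nrm e))

theorem zr (e : Pr D z w) (h1 : x ∈ zd D 𝐂[z]) (h2 : x ∈ rd D 𝐂[w]) : x = 1 :=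
  mem_bot.1 ((h.ti e.l e.r e.ne).le (mem_inf.2 ⟨h1, h.noinv e.r h2 (h.elem (h.gd e.l.good) h1)⟩))

theorem zcom (e : Pr D z w) (h1 : x ∈ zd D 𝐂[z]) (n : x ∈ 𝐍(cl D 𝐂[w])) (h2 : y ∈ rd D 𝐂[w]) (c : y ∈ 𝐂[z]) :
    y * x = x * y := by
  have := h.zr e (mul_mem (conj_mem_of_norm (h.norm_zd (le_norm _) c) h1) (inv_mem h1)) (by
    rw [mul_assoc, mul_assoc, ← mul_assoc x]
    exact mul_mem h2 (conj_mem_of_norm (h.norm_rd' le_rfl n) (inv_mem h2)))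
  rwa [mul_inv_eq_one, mul_inv_eq_iff_eq_mul] at this

theorem stA (e : Pr D z w) (hC : C ∈ D) (l : C ≤ 𝐂[w]) : ∃ ρ ∈ rd D 𝐂[w], ρ ∉ zd D 𝐂[w] ∧ ρ ⋆ C = z ⋆ C ∧
    C ≤ 𝐂[ρ⁻¹ * z] ∧ zd D 𝐂[z] ≤ 𝐂[ρ] := by
  obtain ⟨A, hA, lA⟩ := e.l.ex_pt
  have g := h.gd e.l.good
  have g' := h.gd e.r.good
  have l' : cl D (C ⊔ z ⋆ C) ≤ 𝐂[w] := cl_le.trans (sup_le l (conj_le_of_mem l (mem_cent1.2 e.com)))
  obtain ⟨ρ, hρ, e1, e2, e3⟩ := h.split hA lA (h.hsq e.l) hC (g'.mono l')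
  replace hρ := rd_mono l' hρ
  have n : ρ ∉ zd D 𝐂[w] := fun q => h.disj e hC l (le_cent1_iff.2 (mul_inv_cancel_left ρ z ▸
    mul_mem (cent_anti (le_cl hC l) (g'.c q)) (le_cent1_iff.1 e3)))
  refine ⟨ρ, hρ, n, e1, e3, fun x hx => mem_cent1.2 (Eq.symm ?_)⟩
  have nρ : ρ ∈ 𝐍(zd D 𝐂[z]) := h.norm_zd (le_norm _) (mem_cent1.2 e2)
  have k1 : ∀ x ∈ zd D 𝐂[z], ρ * ρ * x * (ρ * ρ)⁻¹ = x → ρ * x * ρ⁻¹ = x := fun x hx q =>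
    mul_inv_eq_iff_eq_mul.2 (h.zcom e hx (h.norm_big e.r (h.sq g' hρ) (fun q => n (h.noinv e.r hρ q))
      (mem_cent1.2 (mul_inv_eq_iff_eq_mul.1 q).symm)) hρ (mem_cent1.2 e2))
  have k2 : ∀ x ∈ zd D 𝐂[z], ∀ y ∈ zd D 𝐂[z], x * y = y * x := fun x hx y hy => g.com hy (rd_le_cl (zd_le_rd hx))
  have k3 : ∀ x ∈ zd D 𝐂[z], x⁻¹ = x := fun x hx => inv_eq_of_mul_eq_one_right (h.elem g hx)
  have k4 := h.elem g' (h.sq g' hρ)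
  have m1 := conj_mem_of_norm nρ hx
  have m2 := conj_mem_of_norm (mul_mem nρ nρ) hx
  have q1 := k1 _ (mul_mem m2 (inv_mem hx)) (by
    rw [show ρ * ρ * (ρ * ρ * x * (ρ * ρ)⁻¹ * x⁻¹) * (ρ * ρ)⁻¹ = ρ * ρ * (ρ * ρ) * x * (ρ * ρ * (ρ * ρ))⁻¹ *
      (ρ * ρ * x * (ρ * ρ)⁻¹)⁻¹ by group, k4, k3 _ m2, k3 _ hx, one_mul, inv_one, mul_one, k2 _ hx _ m2])
  have q2 := k1 _ (mul_mem m1 (inv_mem hx)) (by
    have := k2 _ (mul_mem m2 (inv_mem hx)) _ (mul_mem m1 (inv_mem hx))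
    calc _ = ρ * (ρ * ρ * x * (ρ * ρ)⁻¹ * x⁻¹) * ρ⁻¹ * (ρ * x * ρ⁻¹ * x⁻¹) * (ρ * ρ * x * (ρ * ρ)⁻¹ * x⁻¹)⁻¹ := by
          group
      _ = _ := by rw [q1, this, mul_inv_cancel_right])
  refine mul_inv_eq_iff_eq_mul.1 (k1 x hx ?_)
  calc _ = ρ * (ρ * x * ρ⁻¹ * x⁻¹) * ρ⁻¹ * (ρ * x * ρ⁻¹ * x⁻¹) * x := by group
    _ = _ := by rw [q2, h.elem g (mul_mem m1 (inv_mem hx)), one_mul]

theorem stB (e : Pr D z w) : zd D 𝐂[z] ≤ 𝐍(cl D 𝐂[w]) := by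
  obtain ⟨C, hC, l⟩ := e.r.ex_pt
  obtain ⟨ρ, hρ, n, -, -, k⟩ := h.stA e hC l
  exact (le_cent1_iff.2 (mul_mem (le_cent1_iff.1 k) (le_cent1_iff.1 k))).trans
    (h.norm_big e.r (h.sq (h.gd e.r.good) hρ) fun q => n (h.noinv e.r hρ q))

theorem stC (e : Pr D z w) (hx : x ∈ rd D 𝐂[w]) (c : x ∈ 𝐂[z]) : zd D 𝐂[z] ≤ 𝐂[x] := fun _ hy =>
  mem_cent1.2 (h.zcom e hy (h.stB e hy) hx c).symm

theorem stD (e : Pr D z w) (hx : x ∈ rd D 𝐂[w]) (c : x ∈ 𝐂[z]) (n : x ∉ zd D 𝐂[w]) :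
    ∀ u ∈ cl D 𝐂[z], x * u * x⁻¹ * u ∈ rd D 𝐂[z] := by
  have g' := h.gd e.r.good
  have k1 := h.sq g' hx
  have n1 : x ∈ 𝐍(cl D 𝐂[z]) := h.norm_cl (le_norm _) c
  obtain ⟨C, hC, l⟩ := e.r.ex_pt
  refine h.dich e.l.good n1 (fun u hu => h.triv hC (le_cent1_iff.2 (cent_anti (le_cl hC l) (g'.c k1))) (h.elem g' k1)
    e.l.good (mul_mem n1 n1) hu) fun q => h.not_le e.l e.r e.ne.symm ?_
  exact (cl_le_cl (h.jj2 e.l (g'.g.to_le (zpowers_le.2 hx)) n1 (h.stC e hx c) q)).trans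
    ((h.same e.r k1 fun q => n (h.noinv e.r hx q)).le.trans cl_le)

theorem stD' (e : Pr D z w) (hx : x ∈ rd D 𝐂[w]) (c : x ∈ 𝐂[z]) (n : x ∉ zd D 𝐂[w]) (hy : y ∈ rd D 𝐂[w])
    (c' : y ∈ 𝐂[z]) (n' : y ∉ zd D 𝐂[w]) : x⁻¹ * y ∈ zd D 𝐂[w] := by
  by_contra q
  obtain ⟨A, hA, l⟩ := e.l.ex_pt
  obtain ⟨u, hu, u1⟩ := exists_ne_one (h.ne_bot hA)
  have l' := le_cl hA l hu
  have k1 := h.stD e (mul_mem (inv_mem hx) hy) (mul_mem (inv_mem c) c') q u l'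
  have k2 := h.stD e hx c n u l'
  have k3 := h.stD e hy c' n' u l'
  refine u1 (h.eq_one_of_sq hA hu (h.eq_one hA e.l.good (mul_mem hu hu) ?_))
  convert conj_mem_of_norm (cl_norm_rd l') (mul_mem (mul_mem (inv_mem (conj_mem_of_norm (h.norm_rd (le_norm _) c) k1))
    k3) (conj_mem_of_norm' (cl_norm_rd l') k2)) using 1
  group

theorem stT (e : Pr D z w) (hC : C ∈ D) (l : C ≤ 𝐂[w]) (hx : x ∈ rd D 𝐂[w]) (c : x ∈ 𝐂[z]) :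
    x ⋆ C = C ∨ x ⋆ C = z ⋆ C := by
  have k : ∀ y ∈ zd D 𝐂[w], y ⋆ C = C := fun y hy => conj_eq_of_cent (cent_anti (le_cl hC l) ((h.gd e.r.good).c hy))
  by_cases q : x ∈ zd D 𝐂[w]
  · exact .inl (k x q)
  obtain ⟨ρ, hρ, n, e1, -, k1⟩ := h.stA e hC l
  refine .inr ?_
  rw [← e1, ← mul_inv_cancel_left ρ x, ← conj_conj,
    k _ (h.stD' e hρ (mem_cent1.2 (mem_cent1.1 (k1 e.l.mem)).symm) n hx c q)]

theorem stE (e : Pr D z w) (hx : x ∈ zd D 𝐂[z]) (x1 : x ≠ 1) : x = z := by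
  obtain ⟨C, hC, l⟩ := e.r.ex_pt
  obtain ⟨A, hA, lA⟩ := e.l.ex_pt
  have s := h.same e.l hx x1
  have e' : Pr D x w := ⟨(h.hv e.l.good hx x1).1, e.r, s ▸ e.ne, mem_cent1.1 (h.stC e (zd_le_rd e.r.mem)
    (mem_cent1.2 e.com.symm) hx)⟩
  obtain ⟨ρ, hρ, n, e1, -, k1⟩ := h.stA e' hC l
  rw [← zd_cl, s, zd_cl] at k1
  have key : ∀ y ∈ zd D 𝐂[z], y ⋆ C = C → y = 1 := fun y hy q => by_contra fun y1 => h.disj e hC l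
    ((le_cl hC (h.cent_of_norm hA hC (le_cent1_iff.2 (cent_anti (le_cl hA lA) ((h.gd e.l.good).c hy)))
      (norm_of_conj_eq q))).trans ((h.same e.l hy y1).le.trans cl_le))
  rcases h.stT e hC l hρ (mem_cent1.2 (mem_cent1.1 (k1 e.l.mem)).symm) with q | q
  · exact (x1 (key x hx (e1 ▸ q))).elim
  · exact (inv_mul_eq_one.1 (key _ (mul_mem (inv_mem e.l.mem) hx) (by rw [← conj_conj, ← e1, q, inv_conj_conj]))).symm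

theorem stF (e : Pr D z w) (hx : x ∈ rd D 𝐂[w]) (c : x ∉ 𝐂[z]) : z * x * z⁻¹ * x⁻¹ = w := by
  obtain ⟨A, hA, lA⟩ := e.l.ex_pt
  refine h.stE e.symm (h.jj e.r (pg_zpowers (h.hsq e.l)) (h.nrm e) (h.stC e.symm (zd_le_rd e.l.mem) (mem_cent1.2 e.com))
    (fun u hu => h.triv hA lA (h.hsq e.l) e.r.good (h.nrm e) hu) hx) fun q => c (mem_cent1.2 ?_)
  rw [mul_inv_eq_one, mul_inv_eq_iff_eq_mul] at q
  exact q.symm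

theorem count (e : Hv 2 D w) : {C | C ∈ D ∧ C ≤ 𝐂[w]}.ncard ≤ 4 := by
  obtain ⟨z, e⟩ := h.ex_pr e
  obtain ⟨C, hC, l⟩ := e.r.ex_pt
  obtain ⟨x, hx, k1⟩ : ∃ x ∈ rd D 𝐂[w], ∀ y ∈ rd D 𝐂[w], y ∉ 𝐂[z] → x⁻¹ * y ∈ 𝐂[z] := by
    by_cases q : ∃ x ∈ rd D 𝐂[w], x ∉ 𝐂[z]
    · obtain ⟨x, hx, c⟩ := q
      refine ⟨x, hx, fun y hy c' => mem_cent1.2 ?_⟩
      have := (h.stF e hx c).trans (h.stF e hy c').symm
      calc x⁻¹ * y * z = x⁻¹ * (z * y * z⁻¹ * y⁻¹)⁻¹ * z * y := by group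
        _ = _ := by rw [← this]; group
    · exact ⟨1, one_mem _, fun y hy c => (q ⟨y, hy, c⟩).elim⟩
  refine (Set.ncard_le_ncard (t := {C, z ⋆ C, x ⋆ C, x ⋆ z ⋆ C}) fun B hB => ?_).trans
    ((Set.ncard_insert_le _ _).trans (Nat.succ_le_succ ((Set.ncard_insert_le _ _).trans
      (Nat.succ_le_succ ((Set.ncard_insert_le _ _).trans (by simp))))))
  obtain ⟨y, hy, rfl⟩ := h.exists_conj hC hB.1 l hB.2
  by_cases c : y ∈ 𝐂[z]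
  · rcases h.stT e hC l hy c with q | q <;> rw [q] <;> simp
  · rw [← mul_inv_cancel_left x y, ← conj_conj]
    rcases h.stT e hC l (mul_mem (inv_mem hx) hy) (k1 y hy c) with q | q <;> rw [q] <;> simp

theorem u4 (hA : A ∈ D) (hB : B ∈ D) (n : A ≠ B) : U4 p k D ⊤ := by
  have key : ∀ A ∈ D, ∀ B ∈ D, A ≠ B → ∀ z ∈ zd D (A ⊔ B), z ≠ 1 →
      {C | C ∈ D ∧ C ≤ A ⊔ B} ⊆ {C | C ∈ D ∧ C ≤ 𝐂[z]} ∧ {C | C ∈ D ∧ C ≤ 𝐂[z]}.ncard ≤ 4 :=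
    fun A hA B hB n z hz z1 =>
      have k := h.hvl hA hB hz z1
      ⟨fun C hC => ⟨hC.1, hC.2.trans (sup_le k.2.1 k.2.2)⟩, h.count k.1⟩
  obtain ⟨z, hz, z1⟩ := exists_ne_one (h.hvy A hA B hB n)
  obtain ⟨k1, k2⟩ := key A hA B hB n z hz z1
  obtain ⟨k3, k4⟩ := h.ncard_line hA hB n
  have k5 := k3 ▸ (Set.ncard_le_ncard k1).trans k2
  have k6 : 3 ≤ p := hp.out.two_le.lt_of_ne' h.p2
  refine ⟨by omega, by omega, fun A hA B hB _ _ n => ⟨h.hvy A hA B hB n, fun z hz z1 C hC _ l => ?_⟩⟩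
  obtain ⟨k1, k2⟩ := key A hA B hB n z hz z1
  exact ((Set.eq_of_subset_of_ncard_le k1 (by rw [(h.ncard_line hA hB n).1]; omega)).ge ⟨hC, l⟩).2

theorem triple (hA : A ∈ D) : ∃ a b c, c ≠ 1 ∧ Pl D a b ∧ Pl D a c ∧ Pl D b c⁻¹ := by
  obtain ⟨w, e, -⟩ := h.ex_big h.ng hA
  obtain ⟨z, e⟩ := h.ex_pr e
  obtain ⟨C, hC, l⟩ := e.r.ex_pt
  obtain ⟨A, hA, lA⟩ := e.l.ex_pt
  obtain ⟨ρ, hρ, n, -, c1, k1⟩ := h.stA e hC l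
  obtain ⟨c, hc, c1'⟩ := exists_ne_one (h.ne_bot hC)
  obtain ⟨a, ha, k2⟩ := h.par hC hA hc
  have cρ : ρ ∈ 𝐂[z] := mem_cent1.2 (mem_cent1.1 (k1 e.l.mem)).symm
  have k3 := h.stD e (inv_mem hρ) (inv_mem cρ) (fun q => n (inv_mem_iff.1 q)) a (le_cl hA lA ha)
  have k4 : ρ⁻¹ * z ∈ 𝐂[z] := mul_mem (inv_mem cρ) (mem_cent1.2 rfl)
  have k5 : ρ⁻¹ * a * ρ⁻¹⁻¹ = ρ⁻¹ * z * a * (ρ⁻¹ * z)⁻¹ := by rw [mul_assoc _ z, ← mem_cent1.1 (lA ha)]; group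
  rw [k5] at k3
  generalize ρ⁻¹ * z = s at c1 k3 k4
  have hB := h.conj A hA s
  have hb : s * a * s⁻¹ ∈ s ⋆ A := conj_mem_conj.2 ha
  refine ⟨c, a, s * a * s⁻¹, fun q => c1' (h.eq_one hC (h.good_line hC hA) hc ?_),
    ⟨C, hC, A, hA, hc, ha, _, h.good_line hC hA, le_sup_left, le_sup_right, k2⟩,
    ⟨C, hC, _, hB, hc, hb, _, h.good_line hC hB, le_sup_left, le_sup_right, ?_⟩,
    ⟨A, hA, _, hB, ha, inv_mem hb, _, e.l.good, lA, conj_le_of_mem lA k4, mul_inv_rev _ a ▸ inv_mem k3⟩⟩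
  · simpa [show a = 1 by simpa using q] using k2
  · rw [← conj_eq_of_cent (le_cent1_iff.1 c1), ← conj_sup, ← h.conj_rd]
    convert conj_mem_conj.2 k2 using 1
    rw [← mul_assoc s, (show Commute s c from (mem_cent1.1 (c1 hc)).symm).inv_right.eq]
    group

end Co

end Cfsg.Lib.FSet
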