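import Cfsg.Agent.Lib.FSet.P4c

/-! F-sets, part IV: the unitary configuration, subgroups and central quotients. -/

set_option autoImplicit false
set_option linter.unusedSectionVars false

namespace Cfsg.Lib.FSet

open Subgroup Cfsg.Lib.BG Cfsg.Lib.Transfer
open scoped Cfsg.Lib.Transfer

variable {G : Type*} [Group G] {G' : Type*} [Group G'] {p r k : ℕ} {D : Set (Subgroup G)}
  {A B C H K N R S : Subgroup G} {a b c g t u v w x y z : G}

theorem U4.mono (u : U4 p k D H) (e : K ≤ H) : U4 p k D K :=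
  ⟨u.1, u.2.1, fun A hA B hB l1 l2 n => have k := u.2.2 A hA B hB (l1.trans e) (l2.trans e) n
    ⟨k.1, fun z hz z1 C hC l => k.2 z hz z1 C hC (l.trans e)⟩⟩

theorem U4.of_comap {f : G' →* G} (hf : Function.Injective f) (u : U4 p k {B : Subgroup G' | B.map f ∈ D} ⊤) :
    U4 p k D f.range := by
  refine ⟨u.1, u.2.1, fun A hA B hB l1 l2 n => ?_⟩
  obtain ⟨A, rfl⟩ : ∃ A', A = Subgroup.map f A' := ⟨_, (map_comap_eq_self l1).symm⟩
  obtain ⟨B, rfl⟩ : ∃ A', B = Subgroup.map f A' := ⟨_, (map_comap_eq_self l2).symm⟩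
  obtain ⟨k1, k2⟩ := u.2.2 A hA B hB le_top le_top fun q => n (q ▸ rfl)
  rw [← Subgroup.map_sup, ← zd_comap hf]
  refine ⟨fun q => k1 ((map_eq_bot_iff_of_injective _ hf).1 q), ?_⟩
  rintro _ ⟨z, hz, rfl⟩ z1 C hC l l'
  obtain ⟨C, rfl⟩ : ∃ A', C = Subgroup.map f A' := ⟨_, (map_comap_eq_self l).symm⟩
  exact map_mono (k2 z hz (fun q => z1 (q ▸ map_one f)) C hC le_top fun c hc => mem_cent1.2 (hf (by
    simpa using mem_cent1.1 (l' (mem_map_of_mem f hc)))))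

theorem eq_of_mem_zpowers (i : c * c = 1) (hz : z ∈ zpowers c) (z1 : z ≠ 1) : z = c := by
  obtain ⟨j, rfl⟩ := hz
  obtain ⟨i, rfl | rfl⟩ := Int.even_or_odd' j
  · exact (z1 (by simp only [zpow_mul, zpow_two, *, one_zpow])).elim
  · simp only [zpow_add, zpow_mul, zpow_two, *, one_zpow, zpow_one, one_mul]

variable [hp : Fact p.Prime] [Finite G]

namespace W

theorem mem_three [Fact r.Prime] (h : W p r k D) (p3 : p = 3) (hA : A ∈ D) (ha : a ∈ A) (a1 : a ≠ 1) (hb : b ∈ A) :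
    b = 1 ∨ b = a ∨ b = a * a := by
  classical
  subst p3
  obtain ⟨j, hj, rfl⟩ := Finset.mem_image.1 (mem_zpowers_iff_mem_range_orderOf.1
    ((zpowers_eq_of_prime (h.prime hA) ha a1).ge hb))
  rw [orderOf_eq_prime (h.pow_one hA ha) a1, Finset.mem_range] at hj
  interval_cases j <;> simp [_root_.sq]

variable (h : W p 2 k D)
include h

theorem cent_of_heavy' (hA : A ∈ D) (hR : IsPGroup 2 R) (n : A ≤ 𝐍(R)) (ab : IsMulCommutative R)
    (e : ∀ x ∈ R, A ≠ x ⋆ A → zd D (A ⊔ x ⋆ A) ≠ ⊥) : R ≤ 𝐂(A) := by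
  refine (le_inf le_rfl fun x hx => norm_of_conj_eq (by_contra fun c => e x hx (Ne.symm c)
    (abelian_iff_der.1 (abelian_of_le ab ?_)))).trans (h.norm_le_cent hA hR n)
  exact (rd_mono (cl_le.trans (sup_le le_sup_right (conj_le_of_mem le_sup_right (mem_sup_left hx))))).trans
    ((h.rd_sup hA hR n).le.trans (comm_le_left n))

/-- (U1) solvable normal subgroups are centralized by the points -/
theorem u_one (m : M2 2 D) (u : U4 p k D H) (ng : ¬ IsPGroup 2 (rd D H)) (l : N ≤ H) (n : H ≤ 𝐍(N))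
    (s : Group.IsSolvable N) (hA : A ∈ D) (lA : A ≤ H) : A ≤ 𝐂(N) := by
  have g := h.good_of_sol (sol_sup' s (pgroup_sol (h.pg hA)) (lA.trans n))
  have lK : N ⊔ A ≤ H := sup_le l lA
  by_cases q : ∀ B ∈ D, B ≤ N ⊔ A → A = B
  · refine cent_of_norm_of_disjoint (lA.trans n) (fun x hx => norm_of_conj_eq (q _ (h.conj A hA x)
      (conj_le_of_mem le_sup_right (mem_sup_left hx))).symm) (inf_eq_bot_of_prime (h.prime hA) fun c => ng ?_)
    refine h.sol (sol_of_le s (cl_le_iff.2 fun B hB lB => ?_))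
    obtain ⟨x, hx, rfl⟩ := h.exists_conj hA hB lA lB
    exact conj_le_of_norm c (n (rd_le hx))
  push Not at q
  obtain ⟨B, hB, lB, q⟩ := q
  obtain ⟨k1, k2⟩ := u.2.2 A hA B hB lA (lB.trans lK) q
  obtain ⟨z, hz, z1⟩ := exists_ne_one k1
  have l1 : cl D (A ⊔ B) ≤ N ⊔ A := cl_le.trans (sup_le le_sup_right lB)
  have l2 : cl D (N ⊔ A) ≤ A ⊔ B := cl_le_iff.2 fun C hC lC => k2 z hz z1 C hC (lC.trans lK)
    ((le_cl hC lC).trans (le_cent1_iff.2 (h.zd_cent m g (zd_mono l1 hz))))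
  have l3 : rd D (N ⊔ A) ≤ 𝐎({2}, N) := pcore_max_p g ⟨(der_mono cl_le).trans (der_sup_le' (lA.trans n) (h.ab hA)),
    h.norm_rd (le_norm_of_le le_sup_left)⟩
  obtain ⟨w, hw, w1, c⟩ := exists_cent (g.to_le zd_le_rd) (pcore_pgroup 2 N)
    (h.norm_zd (le_norm_of_le ((pcore_le _ _).trans le_sup_left))) (ne_bot_of_mem (zd_mono l1 hz) z1)
  refine (ng ((h.good_line hA hB).to_le (rd_mono (cl_le_iff.2 fun C hC lC => k2 w (zd_mono l2 hw) w1 C hC lC
    (le_cent1_iff.2 (h.cent_of_heavy' hC ((pcore_pgroup 2 N).to_le inf_le_left)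
      (norm_center (norm_pcore (lC.trans n) _)) (abelian_center _) (fun x hx q => ?_)
        (mem_inf.2 ⟨l3 (zd_le_rd hw), c⟩))))))).elim
  exact (u.2.2 C hC _ (h.conj C hC x) lC (conj_le_of_mem lC (l (pcore_le _ _ hx.1))) q).1

theorem mk_cx (m : M2 2 D)
    (e : ∀ B : Subgroup G, IsPGroup 2 B → B ≠ ⊥ → IsPGroup 2 (rd D 𝐍(B)) ∨ U4 p k D 𝐍(B)) : Cx p 2 k D := by
  refine ⟨h, m, fun B hB n => or_iff_not_imp_left.2 fun c => cl_le_iff.2 fun A hA l =>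
    h.u_one m ((e B hB n).resolve_left c) c (le_norm B) le_rfl (pgroup_sol hB) hA l, fun H g z hz z1 => ?_⟩
  have l : 𝐂[z] ≤ 𝐍(zpowers z) := norm_of_cent (cent_symm (zpowers_le.2 (le_cent1_iff.1 le_rfl)))
  have c := h.zd_cent m g
  rcases e _ (pg_zpowers (h.elem ⟨g, c⟩ hz)) (ne_bot_of_mem (mem_zpowers z) z1) with q | q
  · exact q.to_le (rd_mono (cl_le.trans l))
  replace q := q.mono l
  have l' : ∀ {A}, A ∈ D → A ≤ H → A ≤ 𝐂[z] := fun hA e => (le_cl hA e).trans (le_cent1_iff.2 (c hz))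
  obtain ⟨A, hA, lA⟩ : ∃ A ∈ D, A ≤ H := by
    by_contra c
    have : cl D H = ⊥ := eq_bot_iff.2 (cl_le_iff.2 fun A hA l => (c ⟨A, hA, l⟩).elim)
    exact z1 (mem_bot.1 (this.le (rd_le_cl (zd_le_rd hz))))
  obtain ⟨B, hB, lB, n⟩ : ∃ B ∈ D, B ≤ H ∧ A ≠ B := by
    by_contra c
    push Not at c
    exact z1 (mem_bot.1 ((h.rd_self hA).le (rd_mono (cl_le_iff.2 fun B hB l => c B hB l ▸ le_sup_left) (zd_le_rd hz))))
  obtain ⟨k1, k2⟩ := q.2.2 A hA B hB (l' hA lA) (l' hB lB) n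
  obtain ⟨w, hw, w1⟩ := exists_ne_one k1
  have l2 : cl D H ≤ A ⊔ B := cl_le_iff.2 fun C hC lC => k2 w hw w1 C hC (l' hC lC)
    ((le_cl hC lC).trans (le_cent1_iff.2 (c (zd_mono (cl_le.trans (sup_le lA lB)) hw))))
  exact (h.good_line hA hB).to_le (rd_mono (cl_le_iff.2 fun C hC lC => k2 z (zd_mono l2 hz) z1 C hC lC lC))

/-- for `p = 3` the centre of a line has order at most two -/
theorem z_two (p3 : p = 3) (hA : A ∈ D) (hB : B ∈ D) (g : Gd D (A ⊔ B)) (hz : z ∈ zd D (A ⊔ B)) (z1 : z ≠ 1)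
    (hw : w ∈ zd D (A ⊔ B)) (w1 : w ≠ 1) : z = w := by
  obtain ⟨x, hx, x1⟩ := SetLike.not_le_iff_exists.1 fun q : rd D (A ⊔ B) ≤ zd D (A ⊔ B) =>
    z1 (mem_bot.1 ((comm_eq_bot_iff.2 (q.trans (g.c.trans (cent_anti rd_le_cl)))).le hz))
  obtain ⟨a, ha, a1⟩ := exists_ne_one (h.ne_bot hA)
  have lA : A ≤ cl D (A ⊔ B) := le_cl hA le_sup_left
  have nA := lA.trans cl_norm_rd
  have hc := comm_zd hx (conj_mem_of_norm (nA ha) hx)
  generalize e : x * (a * x * a⁻¹) * x⁻¹ * (a * x * a⁻¹)⁻¹ = c at hc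
  have n : cl D (A ⊔ B) ≤ 𝐍(zpowers c) := norm_of_cent (cent_symm (zpowers_le.2 (g.c hc)))
  let S (Y : Set G) : Subgroup G :=
    { carrier := {g | g ∈ rd D (A ⊔ B) ∧ ∀ y ∈ Y, y * g * y⁻¹ * g⁻¹ ∈ zpowers c}
      one_mem' := ⟨one_mem _, by simp⟩
      inv_mem' := fun {g} hg => ⟨inv_mem hg.1, fun y hy => by
        convert conj_mem_of_norm' (n (rd_le_cl hg.1)) (inv_mem (hg.2 y hy)) using 1; group⟩
      mul_mem' := fun {g g'} hg hg' => ⟨mul_mem hg.1 hg'.1, fun y hy => by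
        convert mul_mem (hg.2 y hy) (conj_mem_of_norm (n (rd_le_cl hg.1)) (hg'.2 y hy)) using 1; group⟩ }
  have xn : x ∉ 𝐍(A) := fun q => x1 (h.norm_zd' g.g hA le_sup_left hx q)
  have a3 : a * a * a = 1 := by have := h.pow_one hA ha; rwa [p3, pow_three'] at this
  have k1 := h.irr (S := S {x}) hA hB (rd_le hx) xn fun b hb => ⟨conj_mem_of_norm (nA hb) hx, by
    rintro y rfl
    rcases h.mem_three p3 hA ha a1 hb with rfl | rfl | rfl
    · simp
    · exact e ▸ mem_zpowers _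
    · convert conj_mem_of_norm' (n (lA ha)) (inv_mem (mem_zpowers c)) using 1
      rw [← e, eq_inv_of_mul_eq_one_left a3]
      group⟩
  have k2 := h.irr (S := S (rd D (A ⊔ B))) hA hB (rd_le hx) xn fun b hb => ⟨conj_mem_of_norm (nA hb) hx, fun y hy => by
    convert conj_mem_of_norm (n (lA hb)) (inv_mem ((k1 (conj_mem_of_norm' (nA hb) hy)).2 x rfl)) using 1
    group⟩
  have k3 : zd D (A ⊔ B) ≤ zpowers c := comm_le_iff.2 fun y hy g hg => (k2 hg).2 y hy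
  rw [eq_of_mem_zpowers (h.elem g hc) (k3 hz) z1, eq_of_mem_zpowers (h.elem g hc) (k3 hw) w1]

/-- the unitary configuration lifts along a quotient whose kernel centralizes the points -/
theorem u4_lift [Finite G'] (m : M2 2 D) {f : G →* G'} (hs : Function.Surjective f) (hf : ∀ A ∈ D, ¬ A ≤ f.ker)
    (c : ∀ A ∈ D, A ≤ 𝐂(f.ker)) (u : U4 p k (Subgroup.map f '' D) ⊤) : U4 p k D ⊤ := by
  have inj : ∀ A ∈ D, ∀ B ∈ D, A.map f = B.map f → A = B := fun A hA B hB e => h.eq_of_norm hA hB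
    (norm_of_cent ((le_sup_left.trans ((map_eq_map_iff.1 e).ge)).trans (sup_le (abelian_cent (h.ab hA))
      (cent_symm (c A hA)))))
  have w := h.map hs hf
  refine ⟨u.1, u.2.1, fun A hA B hB _ _ n => ?_⟩
  obtain ⟨k1, k2⟩ := u.2.2 _ ⟨A, hA, rfl⟩ _ ⟨B, hB, rfl⟩ le_top le_top fun q => n (inj A hA B hB q)
  have e1 : rd (Subgroup.map f '' D) (A.map f ⊔ B.map f) = (rd D (A ⊔ B)).map f := by
    rw [rd, rd, cl_line hA hB, cl_line (Set.mem_image_of_mem _ hA) (Set.mem_image_of_mem _ hB), map_commutator, Subgroup.map_sup]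
  have e2 : zd (Subgroup.map f '' D) (A.map f ⊔ B.map f) = (zd D (A ⊔ B)).map f := by
    rw [zd, zd, e1, map_commutator]
  rw [e2] at k1 k2
  refine ⟨fun q => k1 (q ▸ Subgroup.map_bot f), fun z hz z1 C hC _ l => ?_⟩
  obtain ⟨_, ⟨y, hy, rfl⟩, y1⟩ := exists_ne_one k1
  obtain rfl := h.z_two u.1 hA hB ⟨h.good_line hA hB, h.zd_cent m (h.good_line hA hB)⟩ hz z1 hy
    fun q => y1 (q ▸ map_one f)
  obtain ⟨x, hx, q⟩ := w.exists_conj ⟨A, hA, rfl⟩ ⟨C, hC, rfl⟩ le_sup_left (k2 _ (mem_map_of_mem f hz) y1 _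
    ⟨C, hC, rfl⟩ le_top (by
      rintro _ ⟨c, hc, rfl⟩
      exact mem_cent1.2 (by rw [← map_mul, mem_cent1.1 (l hc), map_mul])))
  obtain ⟨x, hx', rfl⟩ := e1.le hx
  rw [← inj _ (h.conj A hA x) C hC (q ▸ by rw [map_map, map_map]; congr 1; ext y; simp)]
  exact conj_le_of_mem le_sup_left (rd_le hx')

end W

end Cfsg.Lib.FSet
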