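import Cfsg.Agent.S2602
import Cfsg.Agent.S1069
import Cfsg.Agent.Lib.St.Rigid
import Cfsg.Agent.Lib.St.LieDat
import Cfsg.Agent.Lib.Tits.L28
import Cfsg.Agent.Lib.PSL2.SmallIso

/-! The group `²G₂(3)` is the automorphism group of `L₂(8)`. -/

set_option autoImplicit false

namespace Cfsg.Lib.FSet

open Subgroup Cfsg.Lib.PSL2
open scoped MatrixGroups

variable {K : Type*} [Field K] [Fintype K]

theorem card_aut8 (hK : Fintype.card K = 8) : Nat.card (MulAut PSL(2, K)) = 1512 := by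
  have hK' : Nat.card K = 8 := Nat.card_eq_fintype_card.trans hK
  have h504 : Nat.card PSL(2, K) = 504 := card_psl_of_eq hK' (by decide)
  obtain ⟨φ, h5, -, h6⟩ := Agent.S2602.result (F := K) (p := 2) (f := 3) (by decide) hK (by decide)
  have := isSimpleGroup_psl (F := K) (by omega)
  have h8 : Function.Injective (MulAut.conj : PSL(2, K) →* _) := by
    rw [← MonoidHom.ker_eq_bot_iff]
    refine (IsSimpleGroup.eq_bot_or_eq_top_of_normal _ inferInstance).resolve_right fun e =>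
      not_isMulCommutative_psl (F := K) ⟨⟨fun x g => ?_⟩⟩
    exact mul_inv_eq_iff_eq_mul.1 (DFunLike.congr_fun (MonoidHom.mem_ker.1 (e.ge (mem_top x))) g)
  rw [card_eq_card_quotient_mul_card_subgroup (Inn _), ← Nat.card_congr (MonoidHom.ofInjective h8).toEquiv,
    h504, ← card_mul_index φ.ker, h6, index_ker, MonoidHom.range_eq_top.2 h5]
  simp

theorem iso_aut8 {Y : Type*} [Group Y] (hK : Fintype.card K = 8) (hY : Nat.card Y = 1512) {N : Subgroup Y}
    [N.Normal] (i : N ≃* PSL(2, K)) (c : centralizer (N : Set Y) = ⊥) : Nonempty (Y ≃* MulAut PSL(2, K)) := by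
  have h7 := card_aut8 hK
  have h9 : Function.Injective (MulAut.conjNormal : Y →* MulAut N) := by
    rw [← MonoidHom.ker_eq_bot_iff, eq_bot_iff, ← c]
    intro x hx g hg
    have := congrArg Subtype.val (DFunLike.congr_fun (MonoidHom.mem_ker.1 hx) ⟨g, hg⟩)
    exact (mul_inv_eq_iff_eq_mul.1 (by simpa using this)).symm
  have : Finite (MulAut PSL(2, K)) := Nat.finite_of_card_ne_zero (by omega)
  exact ⟨MulEquiv.ofBijective ((MulAut.congr i).toMonoidHom.comp MulAut.conjNormal)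
    (((MulAut.congr i).injective.comp h9).bijective_of_nat_card_le (by omega))⟩

theorem iso_aut8' {Y : Type*} [Group Y] (hK : Fintype.card K = 8) (hY : Nat.card Y = 1512) {N : Subgroup Y}
    [N.Normal] (e : N ≃* PSL(2, K)) (L : St.LieP 3 Y) : Nonempty (Y ≃* MulAut PSL(2, K)) := by
  have hK' : Nat.card K = 8 := Nat.card_eq_fintype_card.trans hK
  refine iso_aut8 hK hY e (L.eq_bot_of_isPGroup fun z => ⟨1, Subtype.ext ?_⟩)
  have hi : N.index = 3 := by
    have := N.card_mul_index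
    rw [Nat.card_congr e.toEquiv, card_psl_of_eq (n := 504) hK' (by decide), hY] at this
    omega
  have h1 : (z : Y) ^ 3 ∈ N := hi ▸ pow_index_mem _ _
  have := isSimpleGroup_psl (F := K) (by omega)
  have := e.isSimpleGroup
  have hz : center N = ⊥ :=
    (IsSimpleGroup.eq_bot_or_eq_top_of_normal _ inferInstance).resolve_right fun c =>
      not_isMulCommutative_psl (F := K) ⟨⟨fun x g => e.symm.injective (by
        rw [map_mul, map_mul]; exact mem_center_iff.1 (c.ge (mem_top _)) _)⟩⟩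
  simpa using congrArg Subtype.val (mem_bot.1 (hz.le (show ⟨_, h1⟩ ∈ center _ from
    mem_center_iff.2 fun g => Subtype.ext (pow_mem z.2 3 g g.2))))

open Cfsg.Lie Cfsg.Lib.Chev Cfsg.Lib.Twisted Cfsg.Lib.St in
theorem ree3_aut (hK : Fintype.card K = 8) : Nonempty (twistedG2 (ZMod 3) 1 ≃* MulAut PSL(2, K)) := by
  obtain ⟨e⟩ := Tits.nonempty_ree_three hK
  obtain ⟨S, φ, ψ, h⟩ := exists_isG2 (K := ZMod 3) (m := 0) (by simp)
  let D : LieDat 3 (twistedG2 (ZMod 3) 1) := LieDat.ofTw checkedG2 (connG2 _) h.isTw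
    (equivOfMap (subtype_injective _) map_KG2)
  exact iso_aut8' hK Tits.L28.card' e D.lieP

theorem ree_big {G : Type*} [Group G] (h : Lie.IsoRee G) : Nat.card G ≠ 1512 := by
  obtain ⟨K, _, _, m, h1, h2, ⟨e⟩⟩ := h
  rw [Nat.card_congr e.toEquiv, Agent.S1069.result h2]
  have : 3 ^ 3 ≤ 3 ^ (2 * m + 1) := Nat.pow_le_pow_right (by decide) (by omega)
  generalize 3 ^ (2 * m + 1) = q at this
  have h3 : 27 ^ 3 ≤ q ^ 3 := Nat.pow_le_pow_left this 3
  have : 27 ^ 3 * 1 * 1 ≤ q ^ 3 * (q - 1) * (q ^ 3 + 1) :=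
    Nat.mul_le_mul (Nat.mul_le_mul h3 (by omega)) (by omega)
  omega

end Cfsg.Lib.FSet
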